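import Groth.Agent.SplitDiagLib.Stage
import Groth.Agent.CommUnipLib.Sub
import Groth.Agent.LieKolchin.TrigDiag
import Groth.Agent.Comodule.Stab

/-! An extension of a diagonalizable group by a unipotent one splits. -/

set_option autoImplicit false
set_option backward.isDefEq.respectTransparency false
universe u

open TensorProduct WithConv

noncomputable section

namespace Groth.Agent.SplitDiag

open Groth.Agent.Comodule

variable {k : Type u} [Field k] {A : Type u} [CommRing A] [HopfAlgebra k A] {B : Type u} [CommRing B]
  [HopfAlgebra k B]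

/-- A basis adapted to a flag. -/
theorem exists_flag_basis {V : Type u} [AddCommGroup V] [Module k V] [Module.Finite k V]
    (F : ℕ → Submodule k V) (hmono : Monotone F) (hrk : ∀ i, i ≤ Module.finrank k V → Module.finrank k (F i) = i) :
    ∃ b : Module.Basis (Fin (Module.finrank k V)) k V,
      ∀ i : ℕ, i ≤ Module.finrank k V → F i = Submodule.span k (b '' {j | (j : ℕ) < i}) := by
  classical
  set n := Module.finrank k V with hn
  have hex : ∀ i : Fin n, ∃ v, v ∈ F (i + 1) ∧ v ∉ F i := fun i => by
    have hlt : F (i : ℕ) < F (i + 1) := lt_of_le_of_ne (hmono (Nat.le_succ _)) fun h => by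
      have h1 := hrk i i.2.le
      have h2 := hrk (i + 1) i.2
      rw [h] at h1
      omega
    exact SetLike.exists_of_lt hlt
  choose v hv hv' using hex
  have hspan : ∀ i, i ≤ n → F i = Submodule.span k (v '' {j | (j : ℕ) < i}) := by
    intro i
    induction i with
    | zero =>
      intro h
      rw [Submodule.finrank_eq_zero.mp (hrk 0 h)]
      simp
    | succ i ih =>
      intro hi
      have hset : {j : Fin n | (j : ℕ) < i + 1} = insert (⟨i, hi⟩ : Fin n) {j : Fin n | (j : ℕ) < i} := by
        ext j
        simp only [Set.mem_setOf_eq, Set.mem_insert_iff, Fin.ext_iff]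
        omega
      rw [hset, Set.image_insert_eq, Submodule.span_insert, ← ih (by omega)]
      refine (Submodule.eq_of_le_of_finrank_le (sup_le ((Submodule.span_singleton_le_iff_mem _ _).mpr (hv ⟨i, hi⟩))
        (hmono (Nat.le_succ i))) ?_).symm
      have h1 : F i < Submodule.span k {v ⟨i, hi⟩} ⊔ F i :=
        lt_of_le_of_ne le_sup_right fun h => hv' ⟨i, hi⟩
          (h.ge (Submodule.mem_sup_left (Submodule.mem_span_singleton_self _)))
      have := Submodule.finrank_lt_finrank_of_lt h1
      rw [hrk i (by omega)] at this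
      rw [hrk (i + 1) hi]
      omega
  have htop : ⊤ ≤ Submodule.span k (Set.range v) := by
    have h1 : F n = ⊤ := Submodule.eq_top_of_finrank_eq (hrk n le_rfl)
    rw [hspan n le_rfl] at h1
    rw [← h1]
    exact Submodule.span_mono (Set.image_subset_range _ _)
  refine ⟨basisOfTopLeSpanOfCardEqFinrank v htop (Fintype.card_fin n), fun i hi => ?_⟩
  rw [coe_basisOfTopLeSpanOfCardEqFinrank]
  exact hspan i hi

theorem coefMap_eq_zero {V : Type u} [AddCommGroup V] [Module k V] [HopfRep.Comod k A V] {N : Submodule k V}
    (hN : HopfRep.IsSubcomod (k := k) (A := A) N) {φ : V →ₗ[k] k} (hφ : ∀ y ∈ N, φ y = 0) {x : V} (hx : x ∈ N) :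
    coefMap (C := A) φ x = 0 := by
  obtain ⟨z, hz⟩ := hN x hx
  rw [coefMap_apply, ← hz, lcon_rTensor, show φ ∘ₗ N.subtype = 0 from LinearMap.ext fun y => hφ y y.2]
  simp [lcon]

theorem groupLike_mem_range (ψ : B →ₐc[k] A) (hψ : Function.Injective ψ) (J : Ideal A) [J.IsHopfIdeal k]
    (hJ : J = Ideal.map (ψ : B →+* A) (RingHom.ker (Bialgebra.counitAlgHom k B)))
    (hU : HopfRep.IsUnipotent k (A ⧸ J)) {a : A} (ha : IsGroupLikeElem k a) :
    ∃ g : B, IsGroupLikeElem k g ∧ ψ g = a := by
  obtain ⟨n, hn⟩ := isUnipotent_iff_fil.mp hU (Ideal.Quotient.mk J a)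
  have h1 : Ideal.Quotient.mk J a = 1 :=
    CommUnip.groupLike_eq_one_of_mem_fil (IsGroupLikeElem.map (Bialgebra.Quotient.mkBialgHom (R := k) J) ha) hn
  have hJR : J ≤ Ideal.span {b : A | b ∈ (ψ : B →ₐ[k] A).range ∧ Coalgebra.counit (R := k) b = 0} := by
    rw [hJ]
    exact Ideal.map_le_iff_le_comap.mpr fun b hb => Ideal.subset_span ⟨⟨b, rfl⟩,
      (CoalgHomClass.counit_comp_apply ψ b).trans hb⟩
  obtain ⟨g, hg⟩ := HopfFF.mem_of_right_coinv (HopfFF.isHopfSub_range ψ) hJR (a := a) (by
    rw [ha.comul_eq_tmul_self, LinearMap.lTensor_tmul]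
    exact congrArg (fun q => a ⊗ₜ[k] q) h1)
  have hg' : ψ g = a := hg
  refine ⟨g, ⟨?_, ?_⟩, hg'⟩
  · rw [← CoalgHomClass.counit_comp_apply ψ g, hg', ha.counit_eq_one]
  · have hinj : Function.Injective (TensorProduct.map (ψ : B →ₗ[k] A) (ψ : B →ₗ[k] A)) := by
      rw [← LinearMap.lTensor_comp_rTensor, LinearMap.coe_comp]
      exact (Module.Flat.lTensor_preserves_injective_linearMap _ hψ).comp
        (Module.Flat.rTensor_preserves_injective_linearMap _ hψ)
    refine hinj ?_
    rw [CoalgHomClass.map_comp_comul_apply ψ g, hg', ha.comul_eq_tmul_self, TensorProduct.map_tmul]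
    exact (congrArg₂ (fun x y => x ⊗ₜ[k] y) hg' hg').symm

/-- The stage of the image. -/
def baseStage (ψ : B →ₐc[k] A) (hψ : Function.Injective ψ) : Stage ψ :=
  let e := AlgEquiv.ofInjective (ψ : B →ₐ[k] A) hψ
  { R := (ψ : B →ₐ[k] A).range
    hR := HopfFF.isHopfSub_range ψ
    hψ := fun b => ⟨b, rfl⟩
    r := e.symm.toAlgHom
    r_ψ := fun b => e.symm_apply_apply b
    r_counit := fun p => by
      obtain ⟨b, rfl⟩ := e.surjective p
      show Coalgebra.counit (R := k) (e.symm (e b)) = Coalgebra.counit (R := k) (ψ b)
      rw [e.symm_apply_apply, CoalgHomClass.counit_comp_apply]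
    r_comul := fun p z hz => by
      obtain ⟨b, rfl⟩ := e.surjective p
      have h : z = Algebra.TensorProduct.map e.toAlgHom e.toAlgHom (Coalgebra.comul (R := k) b) := by
        refine HopfPts.map_val_injective _ (hz.trans ?_)
        show Coalgebra.comul (R := k) (ψ b) = _
        rw [← CoalgHomClass.map_comp_comul_apply ψ b]
        induction Coalgebra.comul (R := k) b with
        | zero => simp
        | add p q hp hq => simp only [map_add, hp, hq]
        | tmul p q => rfl
      show _ = Coalgebra.comul (R := k) (e.symm (e b))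
      rw [h, e.symm_apply_apply]
      induction Coalgebra.comul (R := k) b with
      | zero => simp
      | add p q hp hq => simp only [map_add, hp, hq]
      | tmul p q =>
        simp only [Algebra.TensorProduct.map_tmul]
        exact congrArg₂ (fun x y => x ⊗ₜ[k] y) (e.symm_apply_apply p) (e.symm_apply_apply q) }

set_option maxHeartbeats 1000000 in
theorem exists_retraction [IsAlgClosed k] [Algebra.FiniteType k A] (hD : HopfRep.IsDiagonalizable k B)
    (ψ : B →ₐc[k] A) (hψ : Function.Injective ψ) (J : Ideal A) [J.IsHopfIdeal k]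
    (hJ : J = Ideal.map (ψ : B →+* A) (RingHom.ker (Bialgebra.counitAlgHom k B)))
    (hU : HopfRep.IsUnipotent k (A ⧸ J)) : ∃ r : A →ₐc[k] B, r.comp ψ = BialgHom.id k B := by
  classical
  have hT : HopfRep.IsTrigonalizable k A := LieKolchin.TrigDiag.trig_of_extension ψ hD J hJ hU
  obtain ⟨s, hs⟩ := (Algebra.FiniteType.out (R := k) (A := A))
  let W : Submodule k A := (Submodule.span (WithConv (A →ₗ[k] k)) (↑s : Set A)).restrictScalars k
  have hW : HopfRep.IsSubcomod (k := k) (A := A) W := isSubcomod_restrictScalars _
  letI := subComod W hW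
  haveI : Module.Finite k W := finite_span_of_finite s.finite_toSet
  obtain ⟨F, hmono, hsub, hrk⟩ := exists_flag_of_trig (k := k) (A := A) (V := W) hT
  obtain ⟨b, hb⟩ := exists_flag_basis F hmono hrk
  let n := Module.finrank k W
  let M : Matrix (Fin n) (Fin n) A := coMat b
  have htri : ∀ i j : Fin n, j < i → M i j = 0 := by
    intro i j hji
    have hmem : b j ∈ F ((j : ℕ) + 1) := by
      rw [hb _ j.2]
      exact Submodule.subset_span ⟨j, Nat.lt_succ_self _, rfl⟩
    show coMat b i j = 0
    rw [coMat, Matrix.of_apply]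
    refine coefMap_eq_zero (hsub _) (fun y hy => ?_) hmem
    rw [hb _ j.2] at hy
    induction hy using Submodule.span_induction with
    | zero => simp
    | add p q _ _ hp hq => rw [map_add, hp, hq, add_zero]
    | smul c p _ hp => rw [map_smul, hp, smul_zero]
    | mem p hp =>
      obtain ⟨l, hl, rfl⟩ := hp
      rw [Module.Basis.coord_apply, Module.Basis.repr_self, Finsupp.single_apply, if_neg]
      intro h
      subst h
      exact absurd hl (by simp only [Set.mem_setOf_eq]; omega)
  have hdiag : ∀ i : Fin n, ∃ g : B, IsGroupLikeElem k g ∧ ψ g = M i i := by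
    intro i
    refine groupLike_mem_range ψ hψ J hJ hU ⟨?_, ?_⟩
    · exact (counit_coMat b i i).trans (if_pos rfl)
    · show Coalgebra.comul (R := k) (coMat b i i : A) = _
      rw [comul_coMat b i i, Finset.sum_eq_single i]
      · intro l _ hli
        rcases lt_or_gt_of_ne hli with h | h
        · rw [show (coMat b i l : A) = 0 from htri i l h, TensorProduct.zero_tmul]
        · rw [show (coMat b l i : A) = 0 from htri l i h, TensorProduct.tmul_zero]
      · simp
  choose gd hgd hgd' using hdiag
  have hstage : ∀ ℓ : ℕ, ∃ T : Stage ψ, ∀ i j : Fin n, (j : ℕ) < (i : ℕ) + ℓ → M i j ∈ T.R := by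
    intro ℓ
    induction ℓ with
    | zero =>
      refine ⟨baseStage ψ hψ, fun i j h => ?_⟩
      rw [htri i j h]
      exact Subalgebra.zero_mem _
    | succ ℓ ih =>
      obtain ⟨T, hT'⟩ := ih
      suffices H : ∀ s : Finset (Fin n), ∃ T' : Stage ψ, T.R ≤ T'.R ∧
          ∀ i ∈ s, ∀ j : Fin n, (j : ℕ) = (i : ℕ) + ℓ → M i j ∈ T'.R by
        obtain ⟨T', hle, h⟩ := H Finset.univ
        refine ⟨T', fun i j hij => ?_⟩
        rcases Nat.lt_or_ge (j : ℕ) (i + ℓ) with hlt | hge
        · exact hle (hT' i j hlt)
        · exact h i (Finset.mem_univ i) j (by omega)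
      intro s
      induction s using Finset.induction_on with
      | empty => exact ⟨T, le_rfl, by simp⟩
      | insert i s _ ihs =>
        obtain ⟨T', hle, h⟩ := ihs
        by_cases hj : (i : ℕ) + ℓ < n
        · let j : Fin n := ⟨i + ℓ, hj⟩
          obtain ⟨T'', hle', hx⟩ : ∃ T'' : Stage ψ, T'.R ≤ T''.R ∧ M i j ∈ T''.R := by
            by_cases hℓ : ℓ = 0
            · refine ⟨T', le_rfl, ?_⟩
              have : j = i := Fin.ext (by simp [j, hℓ])
              rw [this, ← hgd' i]
              exact T'.hψ _
            have hij : i ≠ j := fun h => hℓ (by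
              have := congrArg Fin.val h
              simp [j] at this
              omega)
            obtain ⟨β, hβ⟩ : ∃ β : T'.R ⊗[k] T'.R, Algebra.TensorProduct.map T'.R.val T'.R.val β =
                ∑ l ∈ (Finset.univ.erase i).erase j, M i l ⊗ₜ[k] M l j := by
              refine ⟨∑ l : Fin n, if h : i < l ∧ l < j then
                ⟨M i l, hle (hT' i l (by simp only [Fin.lt_def, j] at h; omega))⟩ ⊗ₜ[k]
                  ⟨M l j, hle (hT' l j (by simp only [Fin.lt_def, j] at h ⊢; omega))⟩ else 0, ?_⟩
              rw [map_sum]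
              refine (Finset.sum_subset (Finset.subset_univ ((Finset.univ.erase i).erase j)) ?_).symm.trans ?_
              · intro l _ hl
                rw [dif_neg, map_zero]
                intro h'
                apply hl
                simp only [Finset.mem_erase, Finset.mem_univ, and_true]
                exact ⟨ne_of_lt h'.2, ne_of_gt h'.1⟩
              · refine Finset.sum_congr rfl fun l hl => ?_
                simp only [Finset.mem_erase, Finset.mem_univ, and_true] at hl
                by_cases h' : i < l ∧ l < j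
                · rw [dif_pos h']
                  rfl
                · rw [dif_neg h', map_zero]
                  rcases not_and_or.mp h' with h'' | h''
                  · rw [htri i l (lt_of_le_of_ne (not_lt.mp h'') hl.2), TensorProduct.zero_tmul]
                  · rw [htri l j (lt_of_le_of_ne (not_lt.mp h'') (Ne.symm hl.1)), TensorProduct.tmul_zero]
            refine T'.extend hD (hgd j) (hgd i) β ?_
            show Coalgebra.comul (R := k) (coMat b i j : A) = _
            rw [comul_coMat b i j, hgd', hgd', hβ, ← Finset.add_sum_erase _ _ (Finset.mem_univ i),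
              ← Finset.add_sum_erase _ _ (Finset.mem_erase.mpr ⟨hij.symm, Finset.mem_univ j⟩)]
            show M i i ⊗ₜ[k] M i j + (M i j ⊗ₜ[k] M j j + _) = _
            abel
          refine ⟨T'', hle.trans hle', fun i' hi' j' hj' => ?_⟩
          rcases Finset.mem_insert.mp hi' with rfl | hi'
          · rw [show j' = j from Fin.ext hj']
            exact hx
          · exact hle' (h i' hi' j' hj')
        · refine ⟨T', hle, fun i' hi' j' hj' => ?_⟩
          rcases Finset.mem_insert.mp hi' with rfl | hi'
          · exact absurd j'.2 (by omega)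
          · exact h i' hi' j' hj'
  obtain ⟨T, hT'⟩ := hstage n
  have htop : T.R = ⊤ := by
    refine eq_top_iff.mpr (hs ▸ Algebra.adjoin_le fun a ha => ?_)
    let a' : W := ⟨a, Submodule.subset_span ha⟩
    suffices H : ∀ w : W, (w : A) ∈ T.R from H a'
    intro w
    induction b.mem_span w using Submodule.span_induction with
    | zero => exact Subalgebra.zero_mem _
    | add p q _ _ hp hq => exact add_mem hp hq
    | smul c p _ hp => exact Subalgebra.smul_mem _ hp c
    | mem p hp =>
      obtain ⟨j, rfl⟩ := hp
      have h1 := lcon_counit_comul (k := k) ((b j : W) : A)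
      rw [show Coalgebra.comul (R := k) ((b j : W) : A) = W.subtype.rTensor A (subCoact W hW (b j)) from
        (rTensor_subCoact W hW (b j)).symm, show subCoact W hW (b j) = HopfRep.Comod.coact (k := k) (A := A) (b j) from rfl,
        coact_basis b j, map_sum, map_sum] at h1
      rw [← h1]
      refine sum_mem fun l _ => ?_
      rw [LinearMap.rTensor_tmul, lcon_tmul]
      exact Subalgebra.smul_mem _ (hT' l j (by omega)) _
  let e : A →ₐ[k] T.R := (AlgHom.id k A).codRestrict T.R fun a => by rw [htop]; trivial
  refine ⟨BialgHom.ofAlgHom (T.r.comp e) (AlgHom.ext fun a => ?_) (AlgHom.ext fun a => ?_),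
    BialgHom.ext fun c => ?_⟩
  · exact T.r_counit (e a)
  · have hinv : ∀ z : A ⊗[k] A,
        Algebra.TensorProduct.map T.R.val T.R.val (Algebra.TensorProduct.map e e z) = z := by
      intro z
      induction z with
      | zero => simp
      | add p q hp hq => simp only [map_add, hp, hq]
      | tmul p q => rfl
    show Algebra.TensorProduct.map (T.r.comp e) (T.r.comp e) (Coalgebra.comul (R := k) a) = _
    rw [Algebra.TensorProduct.map_comp, AlgHom.comp_apply]
    exact T.r_comul (e a) _ (hinv _)
  · exact T.r_ψ c

end Groth.Agent.SplitDiag
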