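import Groth.Agent.SplitDiagLib.Cocycle
import Groth.Agent.HopfFF.Coinv
import Groth.Agent.HopfFF.Image

/-! Powers of a skew-primitive element over a Hopf subalgebra. -/

set_option autoImplicit false
set_option backward.isDefEq.respectTransparency false
universe u v

open TensorProduct WithConv Polynomial

noncomputable section

namespace Groth.Agent.SplitDiag

open Groth.Agent.Comodule

variable {k : Type u} [Field k] {A : Type v} [CommRing A] [HopfAlgebra k A] {B : Type v} [CommRing B]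
  [HopfAlgebra k B] (ι : B →ₐc[k] A)

/-- The ideal of the kernel of the quotient. -/
def kerIdeal : Ideal A := Ideal.map (ι : B →+* A) (RingHom.ker (Bialgebra.counitAlgHom k B))

/-- The coordinate map of the kernel. -/
def pr : A →ₐ[k] A ⧸ kerIdeal ι := Ideal.Quotient.mkₐ k _

theorem pr_ι (b : B) : pr ι (ι b) = algebraMap k _ (Coalgebra.counit (R := k) b) := by
  rw [← sub_eq_zero, ← AlgHom.commutes (pr ι), ← map_sub, ← AlgHomClass.commutes ι, ← map_sub]
  exact Ideal.Quotient.eq_zero_iff_mem.mpr (Ideal.mem_map_of_mem _ (by simp [RingHom.mem_ker]))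

theorem comul_ι (b : B) : Algebra.TensorProduct.map (AlgHom.id k A) (pr ι) (Coalgebra.comul (R := k) (ι b)) =
    ι b ⊗ₜ[k] (1 : A ⧸ kerIdeal ι) := by
  rw [← CoalgHomClass.map_comp_comul_apply ι b]
  have e := congrArg (TensorProduct.rid k B) (Coalgebra.lTensor_counit_comul (R := k) b)
  rw [TensorProduct.rid_tmul, one_smul] at e
  conv_rhs => rw [← e]
  induction Coalgebra.comul (R := k) b with
  | zero => simp
  | add p q hp hq => simp only [map_add, TensorProduct.add_tmul, hp, hq]
  | tmul p q =>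
    simp only [TensorProduct.map_tmul, Algebra.TensorProduct.map_tmul, LinearMap.lTensor_tmul, TensorProduct.rid_tmul]
    rw [show pr ι ((ι : B →ₗ[k] A) q) = algebraMap k _ (Coalgebra.counit (R := k) q) from pr_ι ι q,
      Algebra.algebraMap_eq_smul_one, ← TensorProduct.smul_tmul]
    simp [map_smul]

theorem pr_one_ne_zero : (1 : A ⧸ kerIdeal ι) ≠ 0 := by
  intro h
  have h1 : (1 : A) ∈ kerIdeal ι := Ideal.Quotient.eq_zero_iff_mem.mp h
  have hle : kerIdeal ι ≤ RingHom.ker (Bialgebra.counitAlgHom k A) :=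
    Ideal.map_le_iff_le_comap.mpr fun b hb => by
      rw [Ideal.mem_comap, RingHom.mem_ker]
      exact (CoalgHomClass.counit_comp_apply ι b).trans hb
  simpa using hle h1

/-- The data of a skew-primitive element. -/
structure Skew where
  /-- the element -/
  w : A
  /-- its character -/
  χ : B
  hχ : IsGroupLikeElem k χ
  comul_w : Coalgebra.comul (R := k) w = w ⊗ₜ[k] (1 : A) + ι χ ⊗ₜ[k] w

variable {ι} (S : Skew ι)

/-- The image of `w` in the kernel. -/
def Skew.bar : A ⧸ kerIdeal ι := pr ι S.w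

/-- The first `n` powers in the kernel are independent. -/
def Skew.Indep (n : ℕ) : Prop := LinearIndependent k fun i : Fin n => S.bar ^ (i : ℕ)

theorem Skew.comul_pow (n : ℕ) : Algebra.TensorProduct.map (AlgHom.id k A) (pr ι) (Coalgebra.comul (R := k) (S.w ^ n)) =
    ∑ m ∈ Finset.range (n + 1), ((n.choose m : k) • (S.w ^ m * ι S.χ ^ (n - m))) ⊗ₜ[k] (S.bar ^ (n - m)) := by
  rw [show Coalgebra.comul (R := k) (S.w ^ n) = Coalgebra.comul (R := k) S.w ^ n from
    map_pow (Bialgebra.comulAlgHom k A) _ _, map_pow, S.comul_w, map_add, Algebra.TensorProduct.map_tmul,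
    Algebra.TensorProduct.map_tmul, AlgHom.id_apply, AlgHom.id_apply, map_one, add_pow]
  refine Finset.sum_congr rfl fun m _ => ?_
  rw [Algebra.TensorProduct.tmul_pow, Algebra.TensorProduct.tmul_pow, Algebra.TensorProduct.tmul_mul_tmul, one_pow,
    one_mul, Nat.cast_smul_eq_nsmul k, ← TensorProduct.smul_tmul', nsmul_eq_mul, mul_comm]
  rfl

theorem Skew.isUnit_χ : IsUnit (ι S.χ) :=
  IsUnit.map ι (IsUnit.of_mul_eq_one _ S.hχ.antipode_mul_cancel |> fun _ =>
    IsUnit.of_mul_eq_one _ S.hχ.mul_antipode_cancel)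

theorem Skew.coeff_eq_zero {n : ℕ} (h : S.Indep n) (b : ℕ → B)
    (hb : ∑ i ∈ Finset.range n, ι (b i) * S.w ^ i = 0) : ∀ i < n, ι (b i) = 0 := by
  classical
  by_contra hne
  simp only [not_forall] at hne
  let s := (Finset.range n).filter fun i => ι (b i) ≠ 0
  have hs : s.Nonempty := by
    obtain ⟨i, hi, hbi⟩ := hne
    exact ⟨i, Finset.mem_filter.mpr ⟨Finset.mem_range.mpr hi, hbi⟩⟩
  obtain ⟨hmn, hm⟩ := Finset.mem_filter.mp (s.max'_mem hs)
  set m := s.max' hs
  have hmn' : m < n := Finset.mem_range.mp hmn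
  obtain ⟨φ, hφ⟩ : ∃ φ : (A ⧸ kerIdeal ι) →ₗ[k] k, ∀ i : Fin n, φ (S.bar ^ (i : ℕ)) = if (i : ℕ) = m then 1 else 0 := by
    let bs := Module.Basis.span h
    obtain ⟨φ, hφ⟩ := LinearMap.exists_extend (bs.coord ⟨m, hmn'⟩)
    refine ⟨φ, fun i => ?_⟩
    have h1 := LinearMap.congr_fun hφ (bs i)
    rw [LinearMap.comp_apply, Submodule.subtype_apply, Module.Basis.coord_apply, Module.Basis.repr_self,
      Finsupp.single_apply] at h1
    rw [Module.Basis.span_apply] at h1
    rw [h1]
    simp [Fin.ext_iff]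
  have h0 := congrArg (fun z => rcon φ (Algebra.TensorProduct.map (AlgHom.id k A) (pr ι)
    (Coalgebra.comul (R := k) z))) hb
  simp only [map_sum, Bialgebra.comul_mul, map_mul, comul_ι, S.comul_pow, Finset.mul_sum,
    Algebra.TensorProduct.tmul_mul_tmul, one_mul, rcon_tmul, map_zero] at h0
  refine hm ((S.isUnit_χ.pow m).mul_left_eq_zero.mp ?_)
  rw [← h0, Finset.sum_eq_single m]
  · rw [Finset.sum_eq_single 0]
    · simp [show φ (S.bar ^ m) = 1 from (hφ ⟨m, hmn'⟩).trans (if_pos rfl)]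
    · intro j hj hj0
      have hj' := Finset.mem_range.mp hj
      have : φ (S.bar ^ (m - j)) = 0 := (hφ ⟨m - j, by omega⟩).trans (if_neg (show m - j ≠ m by omega))
      simp [this]
    · simp
  · intro i hi him
    have hin := Finset.mem_range.mp hi
    by_cases hlt : i < m
    · refine Finset.sum_eq_zero fun j _ => ?_
      have : φ (S.bar ^ (i - j)) = 0 := (hφ ⟨i - j, by omega⟩).trans (if_neg (show i - j ≠ m by omega))
      simp [this]
    · have : ι (b i) = 0 := by
        by_contra hne'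
        have := s.le_max' i (Finset.mem_filter.mpr ⟨hi, hne'⟩)
        omega
      simp [this]
  · intro h'
    exact absurd hmn h'

theorem Skew.one_tmul_mem_span : ∀ n : ℕ, (1 : A) ⊗ₜ[k] (S.bar ^ n) ∈ Submodule.span A
    ((fun i => Algebra.TensorProduct.map (AlgHom.id k A) (pr ι) (Coalgebra.comul (R := k) (S.w ^ i))) '' Set.Iic n) := by
  intro n
  induction n using Nat.strong_induction_on with
  | _ n ih =>
    set M := Submodule.span A
      ((fun i => Algebra.TensorProduct.map (AlgHom.id k A) (pr ι) (Coalgebra.comul (R := k) (S.w ^ i))) '' Set.Iic n)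
    have htop : Algebra.TensorProduct.map (AlgHom.id k A) (pr ι) (Coalgebra.comul (R := k) (S.w ^ n)) ∈ M :=
      Submodule.subset_span ⟨n, le_rfl (a := n), rfl⟩
    rw [S.comul_pow, Finset.sum_eq_add_sum_sdiff_singleton_of_mem (Finset.mem_range.mpr (Nat.succ_pos n))] at htop
    have hrest : ∑ m ∈ Finset.range (n + 1) \ {0},
        ((n.choose m : k) • (S.w ^ m * ι S.χ ^ (n - m))) ⊗ₜ[k] (S.bar ^ (n - m)) ∈ M := by
      refine Submodule.sum_mem _ fun m hm => ?_
      simp only [Finset.mem_sdiff, Finset.mem_range, Finset.mem_singleton] at hm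
      rw [show ∀ (a : A) (q : A ⧸ kerIdeal ι), a ⊗ₜ[k] q = a • ((1 : A) ⊗ₜ[k] q) from fun a q => by
        rw [TensorProduct.smul_tmul', smul_eq_mul, mul_one]]
      refine Submodule.smul_mem _ _ (Submodule.span_mono (Set.image_mono fun i hi => ?_) (ih (n - m) (by omega)))
      simp only [Set.mem_Iic] at hi ⊢
      omega
    have h2 := (Submodule.add_mem_iff_left M hrest).mp htop
    simp only [Nat.choose_zero_right, Nat.cast_one, one_smul, pow_zero, one_mul, Nat.sub_zero] at h2
    obtain ⟨u, hu⟩ := (S.isUnit_χ.pow n).exists_left_inv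
    have h3 := M.smul_mem u h2
    rwa [TensorProduct.smul_tmul', smul_eq_mul, hu] at h3

/-- A relation in the kernel lifts. -/
theorem Skew.exists_relation (hι : Function.Injective ι) (d : ℕ)
    (h : S.bar ^ d ∈ Submodule.span k (Set.range fun i : Fin d => S.bar ^ (i : ℕ))) :
    ∃ b : ℕ → B, S.w ^ d = ∑ i ∈ Finset.range d, ι (b i) * S.w ^ i := by
  classical
  let Bs : Subalgebra k A := (ι : B →ₐ[k] A).range
  have hBs : HopfFF.IsHopfSub (k := k) (A := A) Bs := HopfFF.isHopfSub_range ι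
  let Ψ : A ⊗[k] A →ₐ[k] A ⊗[Bs] A :=
    Algebra.TensorProduct.lift (HopfFF.inB₁ Bs) (HopfFF.twistR Bs) fun _ _ => Commute.all _ _
  have hΨ : ∀ a : A, Ψ (Coalgebra.comul (R := k) a) = (1 : A) ⊗ₜ[Bs] a := fun a => by
    have h1 := HopfFF.lift_comp_comul (HopfFF.inB₁ Bs) (HopfFF.twistR Bs)
    replace h1 := h1.trans (HopfFF.mul_twist (HopfFF.inB₁ Bs) (HopfFF.inB₂ Bs))
    exact AlgHom.congr_fun (congrArg WithConv.ofConv h1) a
  have hker : RingHom.ker (Algebra.TensorProduct.map (AlgHom.id k A) (pr ι)) ≤ RingHom.ker Ψ := by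
    rw [Algebra.TensorProduct.lTensor_ker _ Ideal.Quotient.mk_surjective]
    refine Ideal.map_le_iff_le_comap.mpr fun y hy => ?_
    have hle : kerIdeal ι ≤ (RingHom.ker Ψ).comap
        (Algebra.TensorProduct.includeRight : A →ₐ[k] A ⊗[k] A) := by
      refine Ideal.map_le_iff_le_comap.mpr fun b hb => ?_
      have hb' : Coalgebra.counit (R := k) (ι b) = 0 := (CoalgHomClass.counit_comp_apply ι b).trans hb
      simp [Ψ, HopfFF.twistR_apply hBs (show ι b ∈ Bs from ⟨b, rfl⟩), hb']
    exact hle (Ideal.Quotient.eq_zero_iff_mem.mp hy)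
  have hspan : Submodule.span A ((fun i : ℕ => (1 : A) ⊗ₜ[k] (S.bar ^ i)) '' Set.Iio d) ≤ Submodule.span A
      ((fun i => Algebra.TensorProduct.map (AlgHom.id k A) (pr ι) (Coalgebra.comul (R := k) (S.w ^ i))) '' Set.Iio d) := by
    refine Submodule.span_le.mpr ?_
    rintro _ ⟨i, hi, rfl⟩
    exact Submodule.span_mono (Set.image_mono fun j (hj : j ≤ i) => lt_of_le_of_lt hj hi) (S.one_tmul_mem_span i)
  have hmem : Algebra.TensorProduct.map (AlgHom.id k A) (pr ι) (Coalgebra.comul (R := k) (S.w ^ d)) ∈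
      Submodule.span A ((fun i : ℕ => (1 : A) ⊗ₜ[k] (S.bar ^ i)) '' Set.Iio d) := by
    rw [S.comul_pow]
    refine Submodule.sum_mem _ fun m hm => ?_
    rw [show ∀ (a : A) (q : A ⧸ kerIdeal ι), a ⊗ₜ[k] q = a • ((1 : A) ⊗ₜ[k] q) from fun a q => by
      rw [TensorProduct.smul_tmul', smul_eq_mul, mul_one]]
    refine Submodule.smul_mem _ _ ?_
    by_cases hm0 : m = 0
    · subst hm0
      rw [Nat.sub_zero]
      obtain ⟨e, he⟩ := (Submodule.mem_span_range_iff_exists_fun k).mp h
      rw [← he, TensorProduct.tmul_sum]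
      refine Submodule.sum_mem _ fun i _ => ?_
      rw [TensorProduct.tmul_smul, ← algebraMap_smul A (e i)]
      exact Submodule.smul_mem _ _ (Submodule.subset_span ⟨i, i.2, rfl⟩)
    · refine Submodule.subset_span ⟨d - m, ?_, rfl⟩
      have := Finset.mem_range.mp hm
      simp only [Set.mem_Iio]
      omega
  obtain ⟨a, ha⟩ : ∃ a : ℕ → A, Algebra.TensorProduct.map (AlgHom.id k A) (pr ι) (Coalgebra.comul (R := k) (S.w ^ d)) =
      Algebra.TensorProduct.map (AlgHom.id k A) (pr ι)
        (∑ i ∈ Finset.range d, (a i ⊗ₜ[k] (1 : A)) * Coalgebra.comul (R := k) (S.w ^ i)) := by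
    have h1 := hspan hmem
    rw [← Finset.coe_Iio, Finset.coe_Iio, show Set.Iio d = ↑(Finset.range d) by ext; simp,
      Submodule.mem_span_image_finset_iff_exists_fun] at h1
    obtain ⟨c, hc⟩ := h1
    refine ⟨fun i => if hi : i ∈ Finset.range d then c ⟨i, hi⟩ else 0, ?_⟩
    rw [← hc, map_sum, ← Finset.sum_coe_sort (Finset.range d)]
    refine Finset.sum_congr rfl fun i _ => ?_
    simp only [dif_pos i.2]
    rw [map_mul, Algebra.TensorProduct.map_tmul, map_one, AlgHom.id_apply]
    generalize Algebra.TensorProduct.map (AlgHom.id k A) (pr ι) (Coalgebra.comul (R := k) (S.w ^ (i : ℕ))) = z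
    induction z with
    | zero => simp
    | add p q hp hq => rw [smul_add, mul_add, hp, hq]
    | tmul p q => rw [TensorProduct.smul_tmul', smul_eq_mul, Algebra.TensorProduct.tmul_mul_tmul, one_mul]
  have hΨeq := hker (RingHom.mem_ker.mpr (by rw [map_sub, ha, sub_self]) :
    Coalgebra.comul (R := k) (S.w ^ d) - ∑ i ∈ Finset.range d, (a i ⊗ₜ[k] (1 : A)) * Coalgebra.comul (R := k) (S.w ^ i) ∈ _)
  rw [RingHom.mem_ker, map_sub, sub_eq_zero, hΨ, map_sum] at hΨeq
  haveI := HopfFF.faithfullyFlat_of_hopfSub hBs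
  let W : Submodule Bs A := Submodule.span Bs ((fun i : ℕ => S.w ^ i) '' Set.Iio d)
  have h1 : (1 : A) ⊗ₜ[Bs] (W.mkQ (S.w ^ d)) = 0 := by
    have h2 := congrArg (W.mkQ.lTensor A) hΨeq
    rw [LinearMap.lTensor_tmul, map_sum] at h2
    rw [h2]
    refine Finset.sum_eq_zero fun i hi => ?_
    rw [map_mul, hΨ]
    simp only [Ψ, Algebra.TensorProduct.lift_tmul, map_one, mul_one, HopfFF.inB₁, AlgHom.coe_restrictScalars',
      Algebra.TensorProduct.includeLeft_apply, Algebra.TensorProduct.tmul_mul_tmul, one_mul, LinearMap.lTensor_tmul]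
    rw [Submodule.mkQ_apply, (Submodule.Quotient.mk_eq_zero W).mpr
      (Submodule.subset_span ⟨i, Finset.mem_range.mp hi, rfl⟩), TensorProduct.tmul_zero]
  rw [Module.FaithfullyFlat.one_tmul_eq_zero_iff, Submodule.mkQ_apply, Submodule.Quotient.mk_eq_zero] at h1
  simp only [W, show Set.Iio d = ↑(Finset.range d) by ext; simp] at h1
  rw [Submodule.mem_span_image_finset_iff_exists_fun] at h1
  obtain ⟨c, hc⟩ := h1
  choose b hb using fun i : Finset.range d => (c i).2
  refine ⟨fun i => if hi : i ∈ Finset.range d then b ⟨i, hi⟩ else 0, ?_⟩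
  rw [← hc, ← Finset.sum_coe_sort (Finset.range d) (fun i => _)]
  refine Finset.sum_congr rfl fun i _ => ?_
  simp only [dif_pos i.2]
  rw [Subalgebra.smul_def, smul_eq_mul, ← hb i]
  rfl

end Groth.Agent.SplitDiag
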