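import Groth.Agent.Comodule.MultType

/-! Two-cocycles of a diagonalizable Hopf algebra with values in a character are coboundaries. -/

set_option autoImplicit false
set_option backward.isDefEq.respectTransparency false
universe u v

open TensorProduct WithConv

noncomputable section

namespace Groth.Agent.SplitDiag

open Groth.Agent.Comodule

variable {k : Type u} [Field k] {B : Type v} [CommRing B] [HopfAlgebra k B]

/-- The basis of group-like elements. -/
def glBasis (hD : HopfRep.IsDiagonalizable k B) : Module.Basis {a : B // IsGroupLikeElem k a} k B :=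
  Module.Basis.mk (linearIndepOn_isGroupLikeElem (R := k) (A := B))
    (by
      refine le_of_eq (Eq.trans hD.symm (congrArg _ ?_))
      exact Subtype.range_coe_subtype.symm)

theorem glBasis_apply (hD : HopfRep.IsDiagonalizable k B) (i : {a : B // IsGroupLikeElem k a}) :
    glBasis hD i = i.1 := Module.Basis.mk_apply _ _ i

theorem repr_groupLike [DecidableEq {a : B // IsGroupLikeElem k a}] (hD : HopfRep.IsDiagonalizable k B)
    (g i : {a : B // IsGroupLikeElem k a}) : (glBasis hD).repr g.1 i = if g = i then 1 else 0 := by
  rw [← glBasis_apply hD g, Module.Basis.repr_self, Finsupp.single_apply]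

set_option maxHeartbeats 1600000 in
/-- A cocycle is a coboundary. -/
theorem exists_coboundary (hD : HopfRep.IsDiagonalizable k B) {g g' : B} (hg : IsGroupLikeElem k g)
    (hg' : IsGroupLikeElem k g') {β : B ⊗[k] B}
    (hβ : β ⊗ₜ[k] g + (Coalgebra.comul (R := k)).rTensor B β =
      (TensorProduct.assoc k B B B).symm (g' ⊗ₜ[k] β + (Coalgebra.comul (R := k)).lTensor B β)) :
    ∃ c : B, Coalgebra.comul (R := k) c = c ⊗ₜ[k] g + g' ⊗ₜ[k] c + β := by
  classical
  let ι := {a : B // IsGroupLikeElem k a}
  let b := glBasis hD
  let bb := b.tensorProduct b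
  let b3 := bb.tensorProduct b
  let G : ι := ⟨g, hg⟩
  let G' : ι := ⟨g', hg'⟩
  have hb : ∀ i, b i = i.1 := glBasis_apply hD
  let co : ι → ι → k := fun m n => bb.repr β (m, n)
  have r1 : ∀ p m : ι, b.repr p.1 m = if p = m then 1 else 0 := fun p m => repr_groupLike hD p m
  have r2 : ∀ p q m n : ι, bb.repr (p.1 ⊗ₜ[k] q.1) (m, n) = if p = m ∧ q = n then 1 else 0 := fun p q m n => by
    rw [Module.Basis.tensorProduct_repr_tmul_apply, r1, r1, smul_eq_mul]
    split_ifs <;> simp_all
  have r3 : ∀ p q r m n l : ι, b3.repr ((p.1 ⊗ₜ[k] q.1) ⊗ₜ[k] r.1) ((m, n), l) =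
      if p = m ∧ q = n ∧ r = l then 1 else 0 := fun p q r m n l => by
    rw [Module.Basis.tensorProduct_repr_tmul_apply, r2, r1, smul_eq_mul]
    split_ifs <;> simp_all
  have hbb : ∀ p q : ι, bb (p, q) = p.1 ⊗ₜ[k] q.1 := fun p q => by
    rw [Module.Basis.tensorProduct_apply, hb, hb]
  have h1 : ∀ (z : B ⊗[k] B) (m n l : ι), b3.repr ((Coalgebra.comul (R := k)).rTensor B z) ((m, n), l) =
      if m = n then bb.repr z (m, l) else 0 := by
    intro z m n l
    induction bb.mem_span z using Submodule.span_induction with
    | mem x hx =>
      obtain ⟨⟨p, q⟩, rfl⟩ := hx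
      rw [hbb, LinearMap.rTensor_tmul, p.2.comul_eq_tmul_self, r3, r2]
      grind
    | zero => simp
    | add x y _ _ hx hy => simp only [map_add, Finsupp.add_apply, hx, hy]; split_ifs <;> simp
    | smul c x _ hx => simp only [map_smul, Finsupp.smul_apply, hx]; split_ifs <;> simp
  have h2 : ∀ (z : B ⊗[k] B) (m n l : ι),
      b3.repr ((TensorProduct.assoc k B B B).symm ((Coalgebra.comul (R := k)).lTensor B z)) ((m, n), l) =
      if n = l then bb.repr z (m, n) else 0 := by
    intro z m n l
    induction bb.mem_span z using Submodule.span_induction with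
    | mem x hx =>
      obtain ⟨⟨p, q⟩, rfl⟩ := hx
      rw [hbb, LinearMap.lTensor_tmul, q.2.comul_eq_tmul_self, TensorProduct.assoc_symm_tmul, r3, r2]
      grind
    | zero => simp
    | add x y _ _ hx hy => simp only [map_add, Finsupp.add_apply, hx, hy]; split_ifs <;> simp
    | smul c x _ hx => simp only [map_smul, Finsupp.smul_apply, hx]; split_ifs <;> simp
  have hE : ∀ m n l : ι, (if G = l then co m n else 0) + (if m = n then co m l else 0) =
      (if G' = m then co n l else 0) + (if n = l then co m n else 0) := by
    intro m n l
    have h := congrArg (fun z => b3.repr z ((m, n), l)) hβ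
    simp only [map_add, Finsupp.add_apply, h1, h2] at h
    have e1 : b3.repr (β ⊗ₜ[k] g) ((m, n), l) = if G = l then co m n else 0 := by
      rw [Module.Basis.tensorProduct_repr_tmul_apply, repr_groupLike hD G l, smul_eq_mul]
      split_ifs <;> simp [co, bb, b]
    have e2 : b3.repr ((TensorProduct.assoc k B B B).symm (g' ⊗ₜ[k] β)) ((m, n), l) = if G' = m then co n l else 0 := by
      have : ∀ z : B ⊗[k] B, b3.repr ((TensorProduct.assoc k B B B).symm (g' ⊗ₜ[k] z)) ((m, n), l) =
          (if G' = m then 1 else 0) * bb.repr z (n, l) := by
        intro z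
        induction z with
        | zero => simp
        | add p q hp hq => simp only [TensorProduct.tmul_add, map_add, Finsupp.add_apply, hp, hq, mul_add]
        | tmul p q =>
          rw [TensorProduct.assoc_symm_tmul]
          simp only [b3, bb, Module.Basis.tensorProduct_repr_tmul_apply, smul_eq_mul]
          rw [repr_groupLike hD G' m]
          ring
      rw [this]
      split_ifs <;> simp [co]
    rw [e1, e2] at h
    exact h
  let f : ι × ι → B := fun pq => if pq.1 = pq.2 ∧ pq.1 ≠ G ∧ pq.1 ≠ G' then b pq.1
    else if pq.1 = G' ∧ pq.2 = G then -b G else 0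
  refine ⟨bb.constr k f β, ?_⟩
  have hc : ∀ m : ι, b.repr (bb.constr k f β) m =
      if m = G then -co G' G else if m = G' then 0 else co m m := by
    intro m
    suffices H : ∀ z, b.repr (bb.constr k f z) m =
        if m = G then -(bb.repr z (G', G)) else if m = G' then 0 else bb.repr z (m, m) from H β
    intro z
    induction bb.mem_span z using Submodule.span_induction with
    | mem x hx =>
      obtain ⟨⟨p, q⟩, rfl⟩ := hx
      rw [Module.Basis.constr_basis, hbb, r2, r2]
      have hf : b.repr (f (p, q)) m = if p = q ∧ p ≠ G ∧ p ≠ G' then (if p = m then 1 else 0)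
          else if p = G' ∧ q = G then -(if G = m then 1 else 0) else 0 := by
        simp only [f, apply_ite (fun y => b.repr y m), map_neg, map_zero, Finsupp.neg_apply, Finsupp.zero_apply,
          Module.Basis.repr_self, Finsupp.single_apply]
      rw [hf]
      grind
    | zero => simp
    | add x y _ _ hx hy =>
      simp only [map_add, Finsupp.add_apply]
      rw [hx, hy]
      split_ifs <;> ring
    | smul c x _ hx =>
      simp only [map_smul, Finsupp.smul_apply, smul_eq_mul]
      rw [hx]
      split_ifs <;> ring
  apply bb.repr.injective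
  ext ⟨m, n⟩
  have hΔ : bb.repr (Coalgebra.comul (R := k) (bb.constr k f β)) (m, n) =
      if m = n then b.repr (bb.constr k f β) m else 0 := by
    generalize bb.constr k f β = z
    induction b.mem_span z using Submodule.span_induction with
    | mem x hx =>
      obtain ⟨p, rfl⟩ := hx
      rw [hb p, p.2.comul_eq_tmul_self, r2, r1]
      grind
    | zero => simp
    | add x y _ _ hx hy => simp only [map_add, Finsupp.add_apply, hx, hy]; split_ifs <;> simp
    | smul c x _ hx => simp only [map_smul, Finsupp.smul_apply, hx]; split_ifs <;> simp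
  rw [map_add, map_add, Finsupp.add_apply, Finsupp.add_apply, hΔ, hc]
  simp only [bb, Module.Basis.tensorProduct_repr_tmul_apply, smul_eq_mul]
  rw [repr_groupLike hD G n, repr_groupLike hD G' m, hc, hc]
  show _ = _ + _ + co m n
  by_cases hmn : m = n
  · subst hmn
    by_cases hmG : m = G
    · subst hmG
      by_cases hGG : G' = G
      · simp [hGG]
      · have := hE G G G
        simp only [if_true, if_neg hGG] at this
        simp [hGG, Ne.symm hGG]
        linear_combination this
    · by_cases hmG' : m = G'
      · have := hE m m m
        simp only [if_true, if_neg (Ne.symm hmG), if_pos hmG'.symm] at this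
        simp [hmG, Ne.symm hmG, hmG'] at this ⊢
        subst hmG'
        simp [hmG, Ne.symm hmG]
        linear_combination -this
      · simp [hmG, hmG', Ne.symm hmG, Ne.symm hmG']
  · by_cases hnG : n = G
    · subst hnG
      by_cases hmG' : m = G'
      · subst hmG'
        simp [hmn]
      · have := hE m m G
        simp only [if_true, if_neg hmn, if_neg (Ne.symm hmG')] at this
        simp [hmn, hmG', Ne.symm hmG']
        linear_combination -this
    · by_cases hmG' : m = G'
      · subst hmG'
        have := hE G' n n
        simp only [if_true, if_neg hmn, if_neg (Ne.symm hnG)] at this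
        simp [hmn, hnG, Ne.symm hnG, Ne.symm hmn]
        linear_combination this
      · have := hE m m n
        simp only [if_true, if_neg hmn, if_neg (Ne.symm hnG), if_neg (Ne.symm hmG')] at this
        simp [hmn, hmG', Ne.symm hmG', Ne.symm hnG]
        linear_combination -this

end Groth.Agent.SplitDiag
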