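import Groth.Agent.SplitDiagLib.Step
import Groth.Agent.Comodule.PrimUnip

/-! Extending a partial retraction to one more element. -/

set_option autoImplicit false
set_option backward.isDefEq.respectTransparency false
universe u v

open TensorProduct WithConv

noncomputable section

namespace Groth.Agent.SplitDiag

open Groth.Agent.Comodule

variable {k : Type u} [Field k] {A : Type v} [CommRing A] [HopfAlgebra k A] {B : Type v} [CommRing B]
  [HopfAlgebra k B]

/-- A retraction defined on a Hopf subalgebra. -/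
structure Stage (ψ : B →ₐc[k] A) where
  /-- the domain -/
  R : Subalgebra k A
  hR : HopfFF.IsHopfSub (k := k) (A := A) R
  hψ : ∀ b, ψ b ∈ R
  /-- the retraction -/
  r : R →ₐ[k] B
  r_ψ : ∀ b, r ⟨ψ b, hψ b⟩ = b
  r_counit : ∀ p, Coalgebra.counit (R := k) (r p) = Coalgebra.counit (R := k) (p : A)
  r_comul : ∀ (p : R) (z : R ⊗[k] R), Algebra.TensorProduct.map R.val R.val z = Coalgebra.comul (R := k) (p : A) →
    Algebra.TensorProduct.map r r z = Coalgebra.comul (R := k) (r p)

variable {ψ : B →ₐc[k] A}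

/-- The ideal of the kernel. -/
def Stage.ideal (T : Stage ψ) : Ideal A := Ideal.map (T.R.val : T.R →+* A) (RingHom.ker T.r)

theorem Stage.mk_eq (T : Stage ψ) (p : T.R) :
    Ideal.Quotient.mk T.ideal (p : A) = Ideal.Quotient.mk T.ideal (ψ (T.r p)) := by
  refine Ideal.Quotient.eq.mpr ?_
  refine Ideal.mem_map_of_mem (T.R.val : T.R →+* A) (x := p - ⟨ψ (T.r p), T.hψ _⟩) ?_
  rw [RingHom.mem_ker, map_sub, T.r_ψ, sub_self]

theorem Stage.isHopfIdeal (T : Stage ψ) : T.ideal.IsHopfIdeal k := by
  letI := HopfPts.subHopfAlgebra T.hR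
  let rc : T.R →ₐc[k] B := BialgHom.ofAlgHom T.r (AlgHom.ext fun p => T.r_counit p)
    (AlgHom.ext fun p => T.r_comul p _ (HopfPts.map_subComul T.hR p))
  let π := Ideal.Quotient.mkₐ k T.ideal
  have hΦ : T.ideal ≤ RingHom.ker ((Algebra.TensorProduct.map π π).comp (Bialgebra.comulAlgHom k A)) := by
    refine Ideal.map_le_iff_le_comap.mpr fun p hp => RingHom.mem_ker.mpr ?_
    show Algebra.TensorProduct.map π π (Coalgebra.comul (R := k) (p : A)) = 0
    rw [← HopfPts.map_subComul T.hR p]
    have e : ∀ z : T.R ⊗[k] T.R, Algebra.TensorProduct.map π π (Algebra.TensorProduct.map T.R.val T.R.val z) =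
        Algebra.TensorProduct.map (π.comp (ψ : B →ₐ[k] A)) (π.comp (ψ : B →ₐ[k] A))
          (Algebra.TensorProduct.map T.r T.r z) := by
      intro z
      induction z with
      | zero => simp
      | add a b ha hb => simp only [map_add, ha, hb]
      | tmul a b =>
        simp only [Algebra.TensorProduct.map_tmul]
        exact congrArg₂ (fun x y => x ⊗ₜ[k] y) (T.mk_eq a) (T.mk_eq b)
    rw [e, T.r_comul p _ (HopfPts.map_subComul T.hR p), show T.r p = 0 from hp, map_zero, map_zero]
  have hS : T.ideal ≤ T.ideal.comap (HopfAlgebra.antipodeAlgHom k A) := by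
    refine Ideal.map_le_iff_le_comap.mpr fun p hp => ?_
    show HopfAlgebra.antipodeAlgHom k A (p : A) ∈ T.ideal
    refine Ideal.mem_map_of_mem (T.R.val : T.R →+* A)
      (x := ⟨HopfAlgebra.antipode k (p : A), T.hR.2 _ p.2⟩) ?_
    rw [RingHom.mem_ker]
    have h := HopfFF.map_antipode' rc p
    rw [show rc p = T.r p from rfl, show T.r p = 0 from hp, map_zero] at h
    exact h
  have hco : (T.ideal.restrictScalars k).IsCoideal := by
    refine ⟨fun a ha => ?_, fun a ha => ?_⟩
    · have h : T.ideal ≤ RingHom.ker (Bialgebra.counitAlgHom k A) :=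
        Ideal.map_le_iff_le_comap.mpr fun p hp => by
          rw [Ideal.mem_comap, RingHom.mem_ker]
          refine (T.r_counit p).symm.trans ?_
          rw [show T.r p = 0 from hp, map_zero]
      exact h ha
    · let σ : (A ⧸ T.ideal) →ₗ[k] A ⧸ T.ideal.restrictScalars k :=
        (Submodule.Quotient.restrictScalarsEquiv k T.ideal).symm.toLinearMap
      have e : ∀ z : A ⊗[k] A, TensorProduct.map (T.ideal.restrictScalars k).mkQ (T.ideal.restrictScalars k).mkQ z =
          TensorProduct.map σ σ (Algebra.TensorProduct.map π π z) := by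
        intro z
        induction z with
        | zero => simp
        | add p q hp hq => simp only [map_add, hp, hq]
        | tmul p q => simp [σ, π, ← Ideal.Quotient.mk_eq_mk]
      rw [e]
      have h0 := hΦ ha
      rw [RingHom.mem_ker, AlgHom.comp_apply, Bialgebra.comulAlgHom_apply] at h0
      rw [h0, map_zero]
  exact { hco with antipode_mem := fun a ha => hS ha }

theorem Stage.mk_ψ_injective (T : Stage ψ) (b : B) (hb : Ideal.Quotient.mk T.ideal (ψ b) = 0) : b = 0 := by
  haveI := HopfFF.faithfullyFlat_of_hopfSub T.hR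
  have h := Ideal.Quotient.eq_zero_iff_mem.mp hb
  have h2 : (⟨ψ b, T.hψ b⟩ : T.R) ∈ (T.ideal).comap (algebraMap T.R A) := h
  rw [show T.ideal = Ideal.map (algebraMap T.R A) (RingHom.ker T.r) from rfl,
    Ideal.comap_map_eq_self_of_faithfullyFlat, RingHom.mem_ker, T.r_ψ] at h2
  exact h2

theorem map3_injective {C : Type v} [CommRing C] [Algebra k C] (f : B →ₗ[k] C) (hf : Function.Injective f) :
    Function.Injective (TensorProduct.map (TensorProduct.map f f) f) := by
  have h2 : Function.Injective (TensorProduct.map f f) := by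
    rw [← LinearMap.lTensor_comp_rTensor, LinearMap.coe_comp]
    exact (Module.Flat.lTensor_preserves_injective_linearMap f hf).comp
      (Module.Flat.rTensor_preserves_injective_linearMap f hf)
  rw [← LinearMap.lTensor_comp_rTensor, LinearMap.coe_comp]
  exact (Module.Flat.lTensor_preserves_injective_linearMap f hf).comp
    (Module.Flat.rTensor_preserves_injective_linearMap _ h2)

theorem cocycle_of_comul {C : Type v} [CommRing C] [HopfAlgebra k C] (ι : B →ₐc[k] C) (hι : Function.Injective ι)
    {g g' : B} (hg : IsGroupLikeElem k g) (hg' : IsGroupLikeElem k g') {z : C} {β : B ⊗[k] B}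
    (hz : Coalgebra.comul (R := k) z = z ⊗ₜ[k] ι g + ι g' ⊗ₜ[k] z + TensorProduct.map (ι : B →ₗ[k] C) (ι : B →ₗ[k] C) β) :
    β ⊗ₜ[k] g + (Coalgebra.comul (R := k)).rTensor B β =
      (TensorProduct.assoc k B B B).symm (g' ⊗ₜ[k] β + (Coalgebra.comul (R := k)).lTensor B β) := by
  set ψ₁ : B →ₗ[k] C := (ι : B →ₗ[k] C) with hψ₁
  refine map3_injective ψ₁ hι ?_
  have eb : ∀ y, Coalgebra.comul (R := k) (ψ₁ y) = TensorProduct.map ψ₁ ψ₁ (Coalgebra.comul (R := k) y) :=
    fun y => (CoalgHomClass.map_comp_comul_apply ι y).symm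
  have e1 : ∀ y : B ⊗[k] B, (Coalgebra.comul (R := k)).rTensor C (TensorProduct.map ψ₁ ψ₁ y) =
      TensorProduct.map (TensorProduct.map ψ₁ ψ₁) ψ₁ ((Coalgebra.comul (R := k)).rTensor B y) := by
    intro y
    induction y with
    | zero => simp
    | add p q hp hq => simp only [map_add, hp, hq]
    | tmul p q => simp [eb]
  have e2 : ∀ y : B ⊗[k] (B ⊗[k] B), TensorProduct.map (TensorProduct.map ψ₁ ψ₁) ψ₁ ((TensorProduct.assoc k B B B).symm y) =
      (TensorProduct.assoc k C C C).symm (TensorProduct.map ψ₁ (TensorProduct.map ψ₁ ψ₁) y) := by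
    intro y
    induction y with
    | zero => simp
    | add p q hp hq => simp only [map_add, hp, hq]
    | tmul p q =>
      induction q with
      | zero => simp
      | add q r hq hr => simp only [TensorProduct.tmul_add, map_add, hq, hr]
      | tmul q r => simp
  have e3 : ∀ y : B ⊗[k] B, (Coalgebra.comul (R := k)).lTensor C (TensorProduct.map ψ₁ ψ₁ y) =
      TensorProduct.map ψ₁ (TensorProduct.map ψ₁ ψ₁) ((Coalgebra.comul (R := k)).lTensor B y) := by
    intro y
    induction y with
    | zero => simp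
    | add p q hp hq => simp only [map_add, hp, hq]
    | tmul p q => simp [eb]
  have hco := Coalgebra.coassoc_symm_apply (R := k) z
  simp only [hz, map_add, LinearMap.rTensor_tmul, LinearMap.lTensor_tmul, TensorProduct.tmul_add,
    TensorProduct.add_tmul, (hg.map ι).comul_eq_tmul_self, (hg'.map ι).comul_eq_tmul_self,
    TensorProduct.assoc_symm_tmul, e1, e3] at hco
  simp only [map_add, TensorProduct.map_tmul, e2]
  show TensorProduct.map ψ₁ ψ₁ β ⊗ₜ[k] ι g + _ = (TensorProduct.assoc k C C C).symm (ι g' ⊗ₜ[k] _) + _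
  linear_combination (norm := abel) -hco

set_option maxHeartbeats 1000000 in
/-- Adjoining one element. -/
theorem Stage.extend [IsAlgClosed k] (hD : HopfRep.IsDiagonalizable k B) (T : Stage ψ) {x : A} {g g' : B}
    (hg : IsGroupLikeElem k g) (hg' : IsGroupLikeElem k g') (β : T.R ⊗[k] T.R)
    (hx : Coalgebra.comul (R := k) x =
      x ⊗ₜ[k] ψ g + ψ g' ⊗ₜ[k] x + Algebra.TensorProduct.map T.R.val T.R.val β) :
    ∃ T' : Stage ψ, T.R ≤ T'.R ∧ x ∈ T'.R := by
  haveI := T.isHopfIdeal
  let π : A →ₐc[k] A ⧸ T.ideal := Bialgebra.Quotient.mkBialgHom (R := k) T.ideal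
  let ι : B →ₐc[k] A ⧸ T.ideal := π.comp ψ
  have hι : Function.Injective ι := (injective_iff_map_eq_zero ι).mpr fun b hb => T.mk_ψ_injective b hb
  have key : ∀ y, TensorProduct.map (π : A →ₗ[k] A ⧸ T.ideal) (π : A →ₗ[k] A ⧸ T.ideal)
      (Algebra.TensorProduct.map T.R.val T.R.val y) =
      TensorProduct.map (ι : B →ₗ[k] A ⧸ T.ideal) (ι : B →ₗ[k] A ⧸ T.ideal) (Algebra.TensorProduct.map T.r T.r y) := by
    intro y
    induction y with
    | zero => simp
    | add p q hp hq => simp only [map_add, hp, hq]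
    | tmul p q =>
      simp only [Algebra.TensorProduct.map_tmul, TensorProduct.map_tmul]
      exact congrArg₂ (fun a b => a ⊗ₜ[k] b) (T.mk_eq p) (T.mk_eq q)
  set β' := Algebra.TensorProduct.map T.r T.r β with hβ'
  have hπx : Coalgebra.comul (R := k) (π x) =
      π x ⊗ₜ[k] ι g + ι g' ⊗ₜ[k] π x + TensorProduct.map (ι : B →ₗ[k] A ⧸ T.ideal) (ι : B →ₗ[k] A ⧸ T.ideal) β' := by
    rw [← CoalgHomClass.map_comp_comul_apply π x, hx, map_add, map_add, TensorProduct.map_tmul, TensorProduct.map_tmul]
    congr 1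
    rw [hβ']
    exact key β
  obtain ⟨c, hc⟩ := exists_coboundary hD hg hg' (cocycle_of_comul ι hι hg hg' hπx)
  set z := π x - ι c with hzdef
  have hz : Coalgebra.comul (R := k) z = z ⊗ₜ[k] ι g + ι g' ⊗ₜ[k] z := by
    rw [hzdef, map_sub, hπx, ← CoalgHomClass.map_comp_comul_apply ι c, hc, map_add, map_add, TensorProduct.map_tmul,
      TensorProduct.map_tmul, TensorProduct.sub_tmul, TensorProduct.tmul_sub]
    show _ - (ι c ⊗ₜ[k] ι g + ι g' ⊗ₜ[k] ι c + _) = _
    abel
  let Sk : Skew ι :=
    { w := z * ι (HopfAlgebra.antipode k g)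
      χ := g' * HopfAlgebra.antipode k g
      hχ := hg'.mul hg.antipode
      comul_w := by
        rw [Bialgebra.comul_mul, hz, (hg.antipode.map ι).comul_eq_tmul_self, add_mul,
          Algebra.TensorProduct.tmul_mul_tmul, Algebra.TensorProduct.tmul_mul_tmul, ← map_mul, ← map_mul,
          hg.mul_antipode_cancel, map_one] }
  obtain ⟨r', hr'b, hr'ε, hr'Δ⟩ := Sk.exists_retraction hι hD
  have hιmem : ∀ b, ι b ∈ Sk.ev.range := fun b => ⟨Polynomial.C b, Polynomial.aevalTower_C _ _ _⟩
  let R' : Subalgebra k A := Algebra.adjoin k ((T.R : Set A) ∪ {x})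
  have hRle : T.R ≤ R' := fun a ha => Algebra.subset_adjoin (Or.inl ha)
  have hxR : x ∈ R' := Algebra.subset_adjoin (Or.inr rfl)
  have hπR : ∀ a ∈ R', π a ∈ Sk.ev.range := by
    intro a ha
    have hle : R' ≤ Sk.ev.range.comap (π : A →ₐ[k] A ⧸ T.ideal) := by
      refine Algebra.adjoin_le ?_
      rintro a (ha | rfl)
      · show π a ∈ Sk.ev.range
        rw [show π a = ι (T.r ⟨a, ha⟩) from T.mk_eq ⟨a, ha⟩]
        exact hιmem _
      · show π a ∈ Sk.ev.range
        have hw : Sk.w ∈ Sk.ev.range := ⟨Polynomial.X, Polynomial.aevalTower_X _ _⟩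
        have e : π a = Sk.w * ι g + ι c := by
          show π a = z * ι (HopfAlgebra.antipode k g) * ι g + ι c
          rw [mul_assoc, ← map_mul ι, hg.antipode_mul_cancel, map_one ι, mul_one, hzdef, sub_add_cancel]
        rw [e]
        exact add_mem (mul_mem hw (hιmem g)) (hιmem c)
    exact hle ha
  let πr : R' →ₐ[k] Sk.ev.range := ((π : A →ₐ[k] A ⧸ T.ideal).comp R'.val).codRestrict _ fun p => hπR _ p.2
  refine ⟨⟨R', ⟨?_, ?_⟩, fun b => hRle (T.hψ b), r'.comp πr, fun b => ?_, fun p => ?_, fun p y hy => ?_⟩, hRle, hxR⟩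
  · have hle : R' ≤ (Algebra.TensorProduct.map R'.val R'.val).range.comap (Bialgebra.comulAlgHom k A) := by
      let j : T.R →ₐ[k] R' := Subalgebra.inclusion hRle
      have hjj : ∀ y, Algebra.TensorProduct.map R'.val R'.val (Algebra.TensorProduct.map j j y) =
          Algebra.TensorProduct.map T.R.val T.R.val y := by
        intro y
        induction y with
        | zero => simp
        | add p q hp hq => simp only [map_add, hp, hq]
        | tmul p q => simp [j]
      refine Algebra.adjoin_le ?_
      rintro a (ha | rfl)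
      · exact ⟨Algebra.TensorProduct.map j j (HopfPts.subComul T.hR ⟨a, ha⟩),
          (hjj _).trans (HopfPts.map_subComul T.hR ⟨a, ha⟩)⟩
      · refine ⟨⟨a, hxR⟩ ⊗ₜ[k] ⟨ψ g, hRle (T.hψ g)⟩ + ⟨ψ g', hRle (T.hψ g')⟩ ⊗ₜ[k] ⟨a, hxR⟩ +
          Algebra.TensorProduct.map j j β, ?_⟩
        show Algebra.TensorProduct.map R'.val R'.val _ = Bialgebra.comulAlgHom k A a
        rw [map_add, map_add, hjj, Bialgebra.comulAlgHom_apply, hx]
        rfl
    intro b hb
    obtain ⟨y, hy⟩ := hle hb
    exact ⟨y, hy⟩
  · have hle : R' ≤ R'.comap (HopfAlgebra.antipodeAlgHom k A) := by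
      refine Algebra.adjoin_le ?_
      rintro a (ha | rfl)
      · exact hRle (T.hR.2 a ha)
      · show HopfAlgebra.antipode k a ∈ R'
        have h := HopfAlgebra.mul_antipode_rTensor_comul_apply (R := k) a
        rw [hx, map_add, map_add, map_add, map_add, LinearMap.rTensor_tmul, LinearMap.rTensor_tmul,
          LinearMap.mul'_apply, LinearMap.mul'_apply] at h
        have hm : LinearMap.mul' k A ((HopfAlgebra.antipode k).rTensor A (Algebra.TensorProduct.map T.R.val T.R.val β)) ∈ R' := by
          clear h hx hπx hc hβ'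
          induction β with
          | zero => simp
          | add p q hp hq => simp only [map_add]; exact add_mem hp hq
          | tmul p q =>
            simp only [Algebra.TensorProduct.map_tmul, LinearMap.rTensor_tmul, LinearMap.mul'_apply]
            exact mul_mem (hRle (T.hR.2 _ p.2)) (hRle q.2)
        have h2 : HopfAlgebra.antipode k a * ψ g ∈ R' := by
          rw [show HopfAlgebra.antipode k a * ψ g = algebraMap k A (Coalgebra.counit (R := k) a) -
            HopfAlgebra.antipode k (ψ g') * a - LinearMap.mul' k A ((HopfAlgebra.antipode k).rTensor A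
              (Algebra.TensorProduct.map T.R.val T.R.val β)) by rw [← h]; abel]
          exact sub_mem (sub_mem (R'.algebraMap_mem _) (mul_mem (hRle (T.hR.2 _ (T.hψ g'))) hxR)) hm
        have h3 := mul_mem h2 (hRle (T.hψ (HopfAlgebra.antipode k g)))
        rwa [mul_assoc, ← map_mul ψ, hg.mul_antipode_cancel, map_one ψ, mul_one] at h3
    exact fun b hb => hle hb
  · exact hr'b b _ rfl
  · show Coalgebra.counit (R := k) (r' (πr p)) = _
    rw [hr'ε]
    exact CoalgHomClass.counit_comp_apply π _
  · show Algebra.TensorProduct.map (r'.comp πr) (r'.comp πr) y = _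
    rw [Algebra.TensorProduct.map_comp, AlgHom.comp_apply]
    refine hr'Δ (πr p) _ ?_
    show _ = Coalgebra.comul (R := k) (π (p : A))
    rw [← CoalgHomClass.map_comp_comul_apply π (p : A), ← hy]
    clear hy
    induction y with
    | zero => simp
    | add a b ha hb => simp only [map_add, ha, hb]
    | tmul a b => rfl

end Groth.Agent.SplitDiag
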