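import Groth.Agent.SplitDiagLib.Basis
import Groth.Agent.HopfPts.Sub

/-! A retraction of a bialgebra generated over a diagonalizable one by a skew-primitive element. -/

set_option autoImplicit false
set_option backward.isDefEq.respectTransparency false
universe u v

open TensorProduct WithConv Polynomial

noncomputable section

namespace Groth.Agent.SplitDiag

open Groth.Agent.Comodule

variable {k : Type u} [Field k] {A : Type v} [CommRing A] [HopfAlgebra k A] {B : Type v} [CommRing B]
  [HopfAlgebra k B]

/-- `(y - 1) ^ n = y ^ n - 1` when the inner binomial coefficients vanish. -/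
theorem sub_one_pow_of_choose {n : ℕ} (hn : 0 < n) (h : ∀ i, 0 < i → i < n → (n.choose i : k) = 0) (y : B) :
    (y - 1) ^ n = y ^ n - 1 := by
  have key : ∀ y : B, (y - 1) ^ n = y ^ n + (-1) ^ n := fun y => by
    rw [sub_eq_add_neg, add_pow, Finset.sum_range_succ, ← Nat.sub_add_cancel hn, Finset.sum_range_succ',
      Finset.sum_eq_zero]
    · simp [add_comm]
    · intro i hi
      have hi' := Finset.mem_range.mp hi
      have : ((n.choose (i + 1) : ℕ) : B) = 0 := by
        rw [← map_natCast (algebraMap k B), h (i + 1) (by omega) (by omega), map_zero]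
      rw [Nat.sub_add_cancel hn, this, mul_zero]
  have h1 := key 1
  rw [sub_self, zero_pow hn.ne', one_pow] at h1
  rw [key y, eq_neg_of_add_eq_zero_right h1.symm, sub_eq_add_neg]

variable {ι : B →ₐc[k] A} (S : Skew ι)

/-- Evaluation at `w`. -/
def Skew.ev : B[X] →ₐ[k] A := aevalTower (ι : B →ₐ[k] A) S.w

/-- The comultiplication of the polynomial algebra. -/
def Skew.ΔX : B[X] →ₐ[k] B[X] ⊗[k] B[X] :=
  aevalTower ((Algebra.TensorProduct.map (CAlgHom (R := k)) (CAlgHom (R := k))).comp (Bialgebra.comulAlgHom k B))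
    (X ⊗ₜ[k] 1 + C S.χ ⊗ₜ[k] X)

theorem Skew.ev_ΔX (Q : B[X]) :
    Algebra.TensorProduct.map S.ev S.ev (S.ΔX Q) = Coalgebra.comul (R := k) (S.ev Q) := by
  induction Q using Polynomial.induction_on' with
  | add p q hp hq => simp only [map_add, hp, hq]
  | monomial n b =>
    rw [← C_mul_X_pow_eq_monomial]
    simp only [map_mul, map_pow, Bialgebra.comul_mul]
    rw [show S.ev X = S.w from aevalTower_X _ _, show S.ev (C b) = ι b from aevalTower_C _ _ _,
      show S.ΔX X = X ⊗ₜ[k] 1 + C S.χ ⊗ₜ[k] X from aevalTower_X _ _,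
      show S.ΔX (C b) = _ from aevalTower_C _ _ _, AlgHom.comp_apply, Bialgebra.comulAlgHom_apply,
      show Coalgebra.comul (R := k) (S.w ^ n) = Coalgebra.comul (R := k) S.w ^ n from
        map_pow (Bialgebra.comulAlgHom k A) _ _, S.comul_w, map_add, Algebra.TensorProduct.map_tmul,
      Algebra.TensorProduct.map_tmul, map_one, show S.ev X = S.w from aevalTower_X _ _,
      show S.ev (C S.χ) = ι S.χ from aevalTower_C _ _ _, ← CoalgHomClass.map_comp_comul_apply ι b]
    congr 1
    induction Coalgebra.comul (R := k) b with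
    | zero => simp
    | add p q hp hq => simp only [map_add, hp, hq]
    | tmul p q =>
      rw [Algebra.TensorProduct.map_tmul, Algebra.TensorProduct.map_tmul, TensorProduct.map_tmul]
      rw [show S.ev (CAlgHom (R := k) p) = ι p from aevalTower_C _ _ _,
        show S.ev (CAlgHom (R := k) q) = ι q from aevalTower_C _ _ _]
      rfl

theorem Skew.counit_w : Coalgebra.counit (R := k) S.w = 0 := by
  have h := Coalgebra.rTensor_counit_comul (R := k) S.w
  rw [S.comul_w] at h
  have h1 := congrArg (TensorProduct.lid k A) h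
  simp only [map_add, LinearMap.rTensor_tmul, TensorProduct.lid_tmul, CoalgHomClass.counit_comp_apply,
    S.hχ.counit_eq_one, one_smul, add_eq_right] at h1
  have h2 := congrArg (Coalgebra.counit (R := k)) h1
  simpa using h2

/-- A substitution killing all relations gives a retraction. -/
theorem Skew.retraction_of_subst {u : B}
    (hu : Coalgebra.comul (R := k) u = u ⊗ₜ[k] (1 : B) + S.χ ⊗ₜ[k] u)
    (hker : ∀ Q : B[X], S.ev Q = 0 → Q.eval u = 0) :
    ∃ r : S.ev.range →ₐ[k] B, (∀ (b : B) (p : S.ev.range), (p : A) = ι b → r p = b) ∧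
      (∀ p, Coalgebra.counit (R := k) (r p) = Coalgebra.counit (R := k) (p : A)) ∧
      ∀ (p : S.ev.range) (z : S.ev.range ⊗[k] S.ev.range), Algebra.TensorProduct.map S.ev.range.val S.ev.range.val z = Coalgebra.comul (R := k) (p : A) →
        Algebra.TensorProduct.map r r z = Coalgebra.comul (R := k) (r p) := by
  let evu : B[X] →ₐ[k] B := aevalTower (AlgHom.id k B) u
  have hevu : ∀ Q, evu Q = Q.eval u := fun Q => rfl
  choose s hs₀ using fun p : S.ev.range => p.2
  have hs : ∀ p, S.ev (s p) = (p : A) := hs₀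
  have hwd : ∀ Q Q', S.ev Q = S.ev Q' → evu Q = evu Q' := fun Q Q' h => by
    rw [← sub_eq_zero, ← map_sub, hevu]
    exact hker _ (by rw [map_sub, h, sub_self])
  let r : S.ev.range →ₐ[k] B :=
    { toFun := fun p => evu (s p)
      map_one' := (hwd _ 1 (by rw [hs, map_one]; rfl)).trans (map_one evu)
      map_mul' := fun p q => (hwd _ (s p * s q) (by rw [hs, map_mul, hs, hs]; rfl)).trans (map_mul evu _ _)
      map_zero' := (hwd _ 0 (by rw [hs, map_zero]; rfl)).trans (map_zero evu)
      map_add' := fun p q => (hwd _ (s p + s q) (by rw [hs, map_add, hs, hs]; rfl)).trans (map_add evu _ _)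
      commutes' := fun c => (hwd _ (algebraMap k _ c) (by rw [hs, AlgHom.commutes]; rfl)).trans (AlgHom.commutes evu c) }
  have hr : ∀ Q, r (S.ev.rangeRestrict Q) = evu Q := fun Q => hwd _ _ (hs _)
  refine ⟨r, fun b p hp => ?_, ?_, ?_⟩
  · have : p = S.ev.rangeRestrict (C b) := Subtype.ext (hp.trans (show ι b = S.ev (C b) from (aevalTower_C (ι : B →ₐ[k] A) S.w b).symm))
    rw [this, hr]
    exact aevalTower_C _ _ _
  · intro p
    obtain ⟨Q, rfl⟩ := S.ev.rangeRestrict_surjective p
    rw [hr]
    have hu0 : Coalgebra.counit (R := k) u = 0 := by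
      have h := congrArg (TensorProduct.lid k B) (Coalgebra.rTensor_counit_comul (R := k) u)
      rw [hu] at h
      simp only [map_add, LinearMap.rTensor_tmul, TensorProduct.lid_tmul, S.hχ.counit_eq_one, one_smul,
        add_eq_right] at h
      simpa using congrArg (Coalgebra.counit (R := k)) h
    show Bialgebra.counitAlgHom k B (evu Q) = Bialgebra.counitAlgHom k A (S.ev Q)
    induction Q using Polynomial.induction_on' with
    | add p q hp hq => simp only [map_add, hp, hq]
    | monomial n b =>
      rw [← C_mul_X_pow_eq_monomial]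
      simp only [map_mul, map_pow, evu, Skew.ev, aevalTower_C, aevalTower_X, AlgHom.id_apply,
        Bialgebra.counitAlgHom_apply]
      rw [hu0, S.counit_w]
      congr 1
      exact (CoalgHomClass.counit_comp_apply ι b).symm
  · intro p z hz
    obtain ⟨Q, rfl⟩ := S.ev.rangeRestrict_surjective p
    have hz' : z = Algebra.TensorProduct.map S.ev.rangeRestrict S.ev.rangeRestrict (S.ΔX Q) := by
      refine HopfPts.map_val_injective S.ev.range (hz.trans ?_)
      show Coalgebra.comul (R := k) (S.ev Q) = _
      rw [← S.ev_ΔX Q]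
      induction S.ΔX Q with
      | zero => simp
      | add p q hp hq => simp only [map_add, hp, hq]
      | tmul p q => simp
    have hrr : r.comp S.ev.rangeRestrict = evu := AlgHom.ext fun Q => hr Q
    rw [hz', ← AlgHom.comp_apply, ← Algebra.TensorProduct.map_comp, hrr, hr]
    clear hz hz'
    induction Q using Polynomial.induction_on' with
    | add p q hp hq => simp only [map_add, hp, hq]
    | monomial n b =>
      rw [← C_mul_X_pow_eq_monomial]
      simp only [map_mul, map_pow, Bialgebra.comul_mul]
      rw [show evu X = u from aevalTower_X _ _, show evu (C b) = b from aevalTower_C _ _ _,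
        show S.ΔX X = X ⊗ₜ[k] 1 + C S.χ ⊗ₜ[k] X from aevalTower_X _ _,
        show S.ΔX (C b) = _ from aevalTower_C _ _ _, AlgHom.comp_apply, Bialgebra.comulAlgHom_apply,
        show Coalgebra.comul (R := k) (u ^ n) = Coalgebra.comul (R := k) u ^ n from
          map_pow (Bialgebra.comulAlgHom k B) _ _, hu, map_add, Algebra.TensorProduct.map_tmul,
        Algebra.TensorProduct.map_tmul, map_one, show evu X = u from aevalTower_X _ _,
        show evu (C S.χ) = S.χ from aevalTower_C _ _ _]
      congr 1
      induction Coalgebra.comul (R := k) b with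
      | zero => simp
      | add p q hp hq => simp only [map_add, hp, hq]
      | tmul p q =>
        rw [Algebra.TensorProduct.map_tmul, Algebra.TensorProduct.map_tmul]
        rw [show evu (CAlgHom (R := k) p) = p from aevalTower_C _ _ _,
          show evu (CAlgHom (R := k) q) = q from aevalTower_C _ _ _]

variable (B) in
/-- The constants of the polynomial tensor square. -/
def constMap : B ⊗[k] B →ₐ[k] B[X] ⊗[k] B[X] :=
  Algebra.TensorProduct.map (CAlgHom (R := k)) (CAlgHom (R := k))

theorem mul_choose_eq {R : Type v} [CommRing R] [Algebra k R] (x w y z : R) (m : ℕ) (h : w = y * z) :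
    x * (w * (m : R)) = (m : k) • (x * y * z) := by
  rw [Nat.cast_smul_eq_nsmul k, nsmul_eq_mul, h]
  ring

theorem constMap_tmul (p q : B) : constMap B (p ⊗ₜ[k] q) = C p ⊗ₜ[k] C q := rfl

theorem Skew.ΔX_monomial (e : B) (n : ℕ) :
    S.ΔX (C e * X ^ n) = ∑ a ∈ Finset.range (n + 1),
      (n.choose a : k) • (constMap B (Coalgebra.comul (R := k) e * ((S.χ ^ (n - a)) ⊗ₜ[k] (1 : B))) *
        ((X ^ a) ⊗ₜ[k] (X ^ (n - a)))) := by
  have hX : S.ΔX X = X ⊗ₜ[k] 1 + C S.χ ⊗ₜ[k] X := aevalTower_X _ _
  have hC : S.ΔX (C e) = constMap B (Coalgebra.comul (R := k) e) := aevalTower_C _ _ _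
  rw [map_mul, map_pow, hX, hC, add_pow, Finset.mul_sum]
  refine Finset.sum_congr rfl fun a _ => ?_
  rw [map_mul, constMap_tmul, map_pow, map_one, Algebra.TensorProduct.tmul_pow, Algebra.TensorProduct.tmul_pow,
    one_pow]
  exact mul_choose_eq _ _ _ _ _ (by
    rw [Algebra.TensorProduct.tmul_mul_tmul, Algebra.TensorProduct.tmul_mul_tmul, one_mul, mul_comm (X ^ a : B[X])])

theorem smul_pow_sub (a : k) (y : B) (n : ℕ) : (a • y) ^ n = a ^ n • y ^ n := _root_.smul_pow a y n

set_option maxHeartbeats 2000000 in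
/-- Every relation is killed by a substitution. -/
theorem Skew.exists_subst [IsAlgClosed k] (hι : Function.Injective ι) (hD : HopfRep.IsDiagonalizable k B) :
    ∃ u : B, Coalgebra.comul (R := k) u = u ⊗ₜ[k] (1 : B) + S.χ ⊗ₜ[k] u ∧
      ∀ Q : B[X], S.ev Q = 0 → Q.eval u = 0 := by
  classical
  haveI : Coalgebra.IsCocomm k B := isCocomm_of_diag hD
  have hev : ∀ Q : B[X], S.ev Q = ∑ i ∈ Finset.range (Q.natDegree + 1), ι (Q.coeff i) * S.w ^ i := fun Q =>
    Polynomial.eval₂_eq_sum_range _ _
  by_cases hall : ∀ n, S.Indep n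
  · refine ⟨0, by simp, fun Q hQ => ?_⟩
    rw [hev] at hQ
    have h0 : Q = 0 := Polynomial.ext fun i => by
      by_cases hi : i < Q.natDegree + 1
      · exact hι ((S.coeff_eq_zero (hall _) _ hQ i hi).trans (map_zero ι).symm)
      · rw [coeff_zero]
        exact coeff_eq_zero_of_natDegree_lt (by omega)
    rw [h0, eval_zero]
  obtain ⟨d, hd, hind, hspan⟩ : ∃ d, 0 < d ∧ S.Indep d ∧
      S.bar ^ d ∈ Submodule.span k (Set.range fun i : Fin d => S.bar ^ (i : ℕ)) := by
    obtain ⟨m, hm⟩ := not_forall.mp hall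
    have h0 : S.Indep 0 := linearIndependent_empty_type
    have h1 : S.Indep 1 := by
      unfold Skew.Indep
      rw [linearIndependent_unique_iff]
      simpa using pr_one_ne_zero ι
    have hex : ∃ n, ¬ S.Indep n := ⟨m, hm⟩
    have hn2 : 1 < Nat.find hex := by
      rcases Nat.lt_or_ge 1 (Nat.find hex) with h | h
      · exact h
      · have := Nat.find_spec hex
        interval_cases (Nat.find hex)
        · exact absurd h0 this
        · exact absurd h1 this
    obtain ⟨d, hdn⟩ := Nat.exists_eq_succ_of_ne_zero (show Nat.find hex ≠ 0 by omega)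
    refine ⟨d, by omega, not_not.mp (Nat.find_min hex (by omega)), ?_⟩
    have h2 := Nat.find_spec hex
    rw [hdn] at h2
    by_contra h3
    refine h2 ?_
    unfold Skew.Indep
    rw [linearIndependent_fin_succ']
    refine ⟨not_not.mp (Nat.find_min hex (show d < Nat.find hex by omega)), ?_⟩
    rw [show (Fin.init fun i : Fin (d + 1) => S.bar ^ (i : ℕ)) = fun i : Fin d => S.bar ^ (i : ℕ) from rfl]
    simpa using h3
  obtain ⟨b, hb⟩ := S.exists_relation hι d hspan
  let G : B[X] := ∑ i ∈ Finset.range d, C (b i) * X ^ i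
  have hG : G.degree < d := by
    refine (degree_sum_le _ _).trans_lt ((Finset.sup_lt_iff (WithBot.bot_lt_coe d)).mpr fun i hi => ?_)
    exact (degree_C_mul_X_pow_le i (b i)).trans_lt (WithBot.coe_lt_coe.mpr (Finset.mem_range.mp hi))
  set F : B[X] := X ^ d - G with hFdef
  have hF : F.Monic := monic_X_pow_sub hG
  haveI : Nontrivial B := (Bialgebra.counitAlgHom k B).toRingHom.domain_nontrivial
  have hFdeg : F.natDegree = d := by
    refine natDegree_eq_of_degree_eq_some ?_
    rw [hFdef, degree_sub_eq_left_of_degree_lt (by rwa [degree_X_pow]), degree_X_pow]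
  have hevF : S.ev F = 0 := by
    rw [hFdef, map_sub, map_pow, show S.ev X = S.w from aevalTower_X _ _, hb, map_sum, sub_eq_zero]
    refine Finset.sum_congr rfl fun i _ => ?_
    rw [map_mul, map_pow, show S.ev X = S.w from aevalTower_X _ _, show S.ev (C (b i)) = ι (b i) from aevalTower_C _ _ _]
  have hevmod : ∀ Q, S.ev (Q %ₘ F) = S.ev Q := fun Q => by
    conv_rhs => rw [← modByMonic_add_div Q F, map_add, map_mul, hevF, zero_mul, add_zero]
  have hinj : ∀ Q : B[X], S.ev Q = 0 → Q %ₘ F = 0 := fun Q hQ => by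
    have h1 : S.ev (Q %ₘ F) = ∑ i ∈ Finset.range d, ι ((Q %ₘ F).coeff i) * S.w ^ i :=
      Polynomial.eval₂_eq_sum_range' _ (by
        rw [← hFdeg]
        exact natDegree_modByMonic_lt _ hF (fun h => by rw [h, natDegree_one] at hFdeg; omega)) _
    rw [hevmod, hQ] at h1
    refine Polynomial.ext fun i => ?_
    by_cases hi : i < d
    · exact hι ((S.coeff_eq_zero hind _ h1.symm i hi).trans (map_zero ι).symm)
    · rw [coeff_zero]
      refine coeff_eq_zero_of_degree_lt ((degree_modByMonic_lt _ hF).trans_le ?_)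
      rw [degree_eq_natDegree hF.ne_zero, hFdeg]
      exact WithBot.coe_le_coe.mpr (not_lt.mp hi)
  let Rk : B[X] →ₗ[k] B[X] := (Polynomial.modByMonicHom F).restrictScalars k
  have hRk : ∀ Q, Rk Q = Q %ₘ F := fun Q => rfl
  let W : Submodule k B[X] := LinearMap.range Rk
  let R' : B[X] →ₗ[k] W := Rk.rangeRestrict
  let j : W →ₗ[k] A := S.ev.toLinearMap ∘ₗ W.subtype
  have hj : Function.Injective j := (injective_iff_map_eq_zero j).mpr fun y hy => by
    obtain ⟨Q, hQ⟩ := y.2
    refine Subtype.ext ?_
    have : S.ev (y : B[X]) = 0 := hy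
    rw [← hQ, hRk, hevmod] at this
    rw [← hQ, hRk]
    exact hinj Q this
  have hD0 : TensorProduct.map R' R' (S.ΔX F) = 0 := by
    have hjj : Function.Injective (TensorProduct.map j j) := by
      rw [← LinearMap.lTensor_comp_rTensor, LinearMap.coe_comp]
      exact (Module.Flat.lTensor_preserves_injective_linearMap j hj).comp
        (Module.Flat.rTensor_preserves_injective_linearMap j hj)
    refine hjj ?_
    rw [map_zero]
    have e : ∀ z, TensorProduct.map j j (TensorProduct.map R' R' z) = Algebra.TensorProduct.map S.ev S.ev z := by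
      intro z
      induction z with
      | zero => simp
      | add p q hp hq => simp only [map_add, hp, hq]
      | tmul p q =>
        rw [TensorProduct.map_tmul, TensorProduct.map_tmul, Algebra.TensorProduct.map_tmul]
        exact congrArg₂ (fun x y => x ⊗ₜ[k] y) (hevmod p) (hevmod q)
    rw [e, S.ev_ΔX, hevF, map_zero]
  let P : ℕ → B[X] →ₗ[k] B := fun i => ((Polynomial.lcoeff B i).comp (Polynomial.modByMonicHom F)).restrictScalars k
  have hPC : ∀ i e Q, P i (C e * Q) = e * P i Q := fun i e Q => by
    show ((Polynomial.lcoeff B i).comp (Polynomial.modByMonicHom F)) (C e * Q) = _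
    rw [← smul_eq_C_mul, map_smul, smul_eq_mul]
    rfl
  have hPlt : ∀ i a, a < d → P i (X ^ a) = if a = i then 1 else 0 := fun i a ha => by
    show ((X ^ a : B[X]) %ₘ F).coeff i = _
    rw [(modByMonic_eq_self_iff hF).mpr (by
      rw [degree_X_pow, degree_eq_natDegree hF.ne_zero, hFdeg]; exact WithBot.coe_lt_coe.mpr ha), coeff_X_pow]
    simp [eq_comm]
  have hPd : ∀ i, i < d → P i (X ^ d) = b i := fun i hi => by
    rw [show (X ^ d : B[X]) = F + ∑ n ∈ Finset.range d, C (b n) * X ^ n by rw [hFdef]; exact (sub_add_cancel _ _).symm,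
      map_add, map_sum, show P i F = 0 from by show (F %ₘ F).coeff i = 0; rw [modByMonic_self hF, coeff_zero],
      zero_add, Finset.sum_eq_single i]
    · rw [hPC, hPlt i i hi, if_pos rfl, mul_one]
    · intro n hn hni
      rw [hPC, hPlt i n (Finset.mem_range.mp hn), if_neg hni, mul_zero]
    · intro h
      exact absurd (Finset.mem_range.mpr hi) h
  have hP1 : ∀ i, P i 1 = if 0 = i then 1 else 0 := fun i => by
    have := hPlt i 0 hd
    rwa [pow_zero] at this
  let κ : ℕ → ℕ → B[X] ⊗[k] B[X] →ₗ[k] B ⊗[k] B := fun i j => TensorProduct.map (P i) (P j)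
  have hκ : ∀ i j (z : B ⊗[k] B) a c,
      κ i j (constMap B z * ((X ^ a) ⊗ₜ[k] (X ^ c))) = z * (P i (X ^ a) ⊗ₜ[k] P j (X ^ c)) := by
    intro i j z a c
    induction z with
    | zero => simp
    | add p q hp hq => simp only [map_add, add_mul, hp, hq]
    | tmul p q =>
      simp only [constMap_tmul, κ, Algebra.TensorProduct.tmul_mul_tmul, TensorProduct.map_tmul]
      exact congrArg₂ (fun x y => x ⊗ₜ[k] y) (hPC i p _) (hPC j q _)
  have hmon : ∀ i j (e : B) n, κ i j (S.ΔX (C e * X ^ n)) = ∑ a ∈ Finset.range (n + 1),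
      (n.choose a : k) • (Coalgebra.comul (R := k) e * ((S.χ ^ (n - a)) ⊗ₜ[k] (1 : B)) *
        (P i (X ^ a) ⊗ₜ[k] P j (X ^ (n - a)))) := by
    intro i j e n
    rw [S.ΔX_monomial, map_sum]
    exact Finset.sum_congr rfl fun a _ => by rw [map_smul, hκ]
  have hEq : ∀ i j, i < d → j < d →
      (if 0 = j then b i ⊗ₜ[k] (1 : B) else 0) +
        (d.choose i : k) • ((S.χ ^ (d - i)) ⊗ₜ[k] P j (X ^ (d - i))) =
      if i + j < d then ((i + j).choose i : k) • (Coalgebra.comul (R := k) (b (i + j)) * ((S.χ ^ j) ⊗ₜ[k] (1 : B)))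
        else 0 := by
    intro i j hi hj'
    have h1 : κ i j (S.ΔX F) = 0 := by
      have h2 := congrArg (TensorProduct.map ((Polynomial.lcoeff B i).restrictScalars k ∘ₗ W.subtype)
        ((Polynomial.lcoeff B j).restrictScalars k ∘ₗ W.subtype)) hD0
      rw [map_zero, TensorProduct.map_map] at h2
      exact h2
    rw [hFdef, map_sub, map_sub, sub_eq_zero] at h1
    have hl : κ i j (S.ΔX (X ^ d)) = (if 0 = j then b i ⊗ₜ[k] (1 : B) else 0) +
        (d.choose i : k) • ((S.χ ^ (d - i)) ⊗ₜ[k] P j (X ^ (d - i))) := by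
      have := hmon i j 1 d
      rw [map_one, one_mul] at this
      rw [this, Finset.sum_range_succ, add_comm, Bialgebra.comul_one]
      congr 1
      · rw [Nat.choose_self, Nat.sub_self, pow_zero, pow_zero, hPd i hi, hP1, Nat.cast_one, one_smul,
          Algebra.TensorProduct.one_def, Algebra.TensorProduct.tmul_mul_tmul, Algebra.TensorProduct.tmul_mul_tmul,
          one_mul, one_mul]
        split_ifs <;> simp
      · rw [Finset.sum_eq_single i]
        · rw [hPlt i i hi, if_pos rfl, one_mul, Algebra.TensorProduct.tmul_mul_tmul, mul_one, one_mul]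
        · intro a ha hai
          rw [hPlt i a (Finset.mem_range.mp ha), if_neg hai, TensorProduct.zero_tmul, mul_zero, smul_zero]
        · intro h
          exact absurd (Finset.mem_range.mpr hi) h
    have hr' : κ i j (S.ΔX G) = if i + j < d then
        ((i + j).choose i : k) • (Coalgebra.comul (R := k) (b (i + j)) * ((S.χ ^ j) ⊗ₜ[k] (1 : B))) else 0 := by
      rw [map_sum, map_sum]
      simp only [hmon]
      have hn : ∀ n ∈ Finset.range d, ∑ a ∈ Finset.range (n + 1), (n.choose a : k) • (Coalgebra.comul (R := k) (b n) *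
          ((S.χ ^ (n - a)) ⊗ₜ[k] (1 : B)) * (P i (X ^ a) ⊗ₜ[k] P j (X ^ (n - a)))) =
          if n = i + j then (n.choose i : k) • (Coalgebra.comul (R := k) (b n) * ((S.χ ^ j) ⊗ₜ[k] (1 : B))) else 0 := by
        intro n hn
        have hn' := Finset.mem_range.mp hn
        have hterm : ∀ a ∈ Finset.range (n + 1), (n.choose a : k) • (Coalgebra.comul (R := k) (b n) *
            ((S.χ ^ (n - a)) ⊗ₜ[k] (1 : B)) * (P i (X ^ a) ⊗ₜ[k] P j (X ^ (n - a)))) =
            if a = i then (if n = i + j then
              (n.choose i : k) • (Coalgebra.comul (R := k) (b n) * ((S.χ ^ j) ⊗ₜ[k] (1 : B))) else 0) else 0 := by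
          intro a ha
          have ha' := Finset.mem_range.mp ha
          rw [hPlt i a (by omega), hPlt j (n - a) (by omega)]
          by_cases hai : a = i
          · subst hai
            by_cases hnj : n - a = j
            · rw [if_pos rfl, if_pos hnj, if_pos rfl, if_pos (by omega), hnj,
                show ((1 : B) ⊗ₜ[k] (1 : B)) = 1 from Algebra.TensorProduct.one_def.symm, mul_one]
            · rw [if_pos rfl, if_neg hnj, if_pos rfl, if_neg (by omega), TensorProduct.tmul_zero, mul_zero, smul_zero]
          · rw [if_neg hai, if_neg hai, TensorProduct.zero_tmul, mul_zero, smul_zero]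
        rw [Finset.sum_congr rfl hterm, Finset.sum_ite_eq']
        split_ifs with h₁ h₂ <;> first | rfl | (exfalso; simp only [Finset.mem_range] at h₁; omega)
      rw [Finset.sum_congr rfl hn, Finset.sum_ite_eq']
      simp only [Finset.mem_range]
    rw [← hl, h1, hr']
  have hεl : ∀ x : B, TensorProduct.lid k B ((Coalgebra.counit (R := k)).rTensor B (Coalgebra.comul (R := k) x)) = x :=
    fun x => by rw [Coalgebra.rTensor_counit_comul, TensorProduct.lid_tmul, one_smul]
  have hmid : ∀ i, 0 < i → i < d → (d.choose i : k) = 0 := by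
    intro i hi0 hi
    have h := hEq i (d - i) hi (by omega)
    rw [if_neg (show ¬ 0 = d - i by omega), if_neg (show ¬ i + (d - i) < d by omega), zero_add, hPlt _ _ (by omega),
      if_pos rfl] at h
    have h2 := congrArg (Coalgebra.counit (R := k) ∘ₗ (TensorProduct.rid k B).toLinearMap ∘ₗ
      (Coalgebra.counit (R := k) (A := B)).lTensor B) h
    simpa [(S.hχ.pow (n := d - i)).counit_eq_one] using h2
  let c : ℕ → k := fun i => Coalgebra.counit (R := k) (b i)
  have hbi : ∀ i, 0 < i → i < d → b i = c i • (1 : B) := by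
    intro i hi0 hi
    have h := hEq i 0 hi hd
    rw [if_pos rfl, hPlt 0 (d - i) (by omega), if_neg (show ¬ d - i = 0 by omega), TensorProduct.tmul_zero, smul_zero,
      add_zero, if_pos (show i + 0 < d by omega), Nat.add_zero, Nat.choose_self, Nat.cast_one, one_smul, pow_zero,
      ← Algebra.TensorProduct.one_def, mul_one] at h
    have h2 := congrArg (fun z => TensorProduct.lid k B ((Coalgebra.counit (R := k)).rTensor B z)) h
    simp only [hεl, LinearMap.rTensor_tmul, TensorProduct.lid_tmul] at h2
    exact h2.symm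
  have hcχ : ∀ n, 0 < n → n < d → c n • S.χ ^ d = c n • S.χ ^ n := by
    intro n hn0 hn
    have h := hEq 0 n hd hn
    rw [if_neg (show ¬ 0 = n by omega), zero_add, Nat.sub_zero, hPd n hn, Nat.choose_zero_right, Nat.cast_one,
      one_smul, if_pos (show 0 + n < d by omega), Nat.zero_add, Nat.choose_zero_right, Nat.cast_one, one_smul,
      hbi n hn0 hn, map_smul, Bialgebra.comul_one, smul_mul_assoc, one_mul, TensorProduct.tmul_smul] at h
    have h2 := congrArg (fun z => TensorProduct.rid k B ((Coalgebra.counit (R := k)).lTensor B z)) h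
    simpa using h2
  have hcC : ∀ n i, 0 < i → i < n → n < d → c n • (n.choose i : k) = 0 := by
    intro n i hi0 hin hn
    have h := hEq i (n - i) (by omega) (by omega)
    rw [if_neg (show ¬ 0 = n - i by omega), zero_add, hPlt (n - i) (d - i) (by omega),
      if_neg (show ¬ d - i = n - i by omega), TensorProduct.tmul_zero, smul_zero,
      show i + (n - i) = n by omega, if_pos hn, hbi n (by omega) hn, map_smul, Bialgebra.comul_one, smul_mul_assoc,
      one_mul] at h
    have h2 := congrArg (Coalgebra.counit (R := k) ∘ₗ (TensorProduct.rid k B).toLinearMap ∘ₗ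
      (Coalgebra.counit (R := k) (A := B)).lTensor B) h
    simp only [map_zero, map_smul, LinearMap.comp_apply, LinearMap.lTensor_tmul, LinearEquiv.coe_coe,
      TensorProduct.rid_tmul, Bialgebra.counit_one, one_smul, (S.hχ.pow (n := n - i)).counit_eq_one, smul_eq_mul,
      mul_one] at h2
    rw [smul_eq_mul, mul_comm]
    exact h2.symm
  obtain ⟨t, ht⟩ : ∃ t : k, b 0 = t • (S.χ ^ d - 1) := by
    refine eq_zero_of_skew (fun f hf => primitive_eq_zero_of_diag hD f hf) IsGroupLikeElem.one (S.hχ.pow (n := d)) ?_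
    have h := hEq 0 0 hd hd
    rw [if_pos rfl, Nat.sub_zero, hPd 0 hd, if_pos (show 0 + 0 < d by omega), Nat.add_zero, Nat.choose_zero_right,
      Nat.cast_one, one_smul, Nat.choose_zero_right, Nat.cast_one, one_smul, pow_zero,
      ← Algebra.TensorProduct.one_def, mul_one] at h
    exact h.symm
  let e : ℕ → k := fun n => if n = 0 then t else c n
  let Pk : k[X] := X ^ d - ∑ n ∈ Finset.range d, C (e n) * X ^ n
  have hGk : (∑ n ∈ Finset.range d, C (e n) * X ^ n : k[X]).degree < d := by
    refine (degree_sum_le _ _).trans_lt ((Finset.sup_lt_iff (WithBot.bot_lt_coe d)).mpr fun i hi => ?_)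
    exact (degree_C_mul_X_pow_le i (e i)).trans_lt (WithBot.coe_lt_coe.mpr (Finset.mem_range.mp hi))
  obtain ⟨a, ha⟩ := IsAlgClosed.exists_root Pk (by
    rw [degree_sub_eq_left_of_degree_lt (by rwa [degree_X_pow]), degree_X_pow]
    simp only [ne_eq, Nat.cast_eq_zero]
    omega)
  refine ⟨a • (S.χ - 1), ?_, fun Q hQ => ?_⟩
  · rw [map_smul, map_sub, S.hχ.comul_eq_tmul_self, Bialgebra.comul_one, Algebra.TensorProduct.one_def,
      ← TensorProduct.smul_tmul', TensorProduct.tmul_smul, ← smul_add, TensorProduct.sub_tmul, TensorProduct.tmul_sub]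
    congr 1
    abel
  · obtain ⟨q, rfl⟩ : F ∣ Q := (modByMonic_eq_zero_iff_dvd hF).mp (hinj Q hQ)
    rw [eval_mul]
    suffices hF0 : F.eval (a • (S.χ - 1)) = 0 by rw [hF0, zero_mul]
    have hterm : ∀ n ∈ Finset.range d, b n * (a • (S.χ - 1)) ^ n = (e n * a ^ n) • (S.χ ^ d - 1) := by
      intro n hn
      have hn' := Finset.mem_range.mp hn
      by_cases hn0 : n = 0
      · subst hn0
        simp [e, ht]
      · simp only [e, if_neg hn0]
        rw [hbi n (by omega) hn', smul_pow_sub, smul_mul_assoc, one_mul]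
        by_cases hc0 : c n = 0
        · simp [hc0]
        · rw [sub_one_pow_of_choose (k := k) (by omega) (fun i hi0 hi =>
            (mul_eq_zero.mp (hcC n i hi0 hi hn')).resolve_left hc0), smul_smul]
          rw [smul_sub, smul_sub, mul_comm (c n) (a ^ n), mul_smul, mul_smul (a ^ n) (c n), ← hcχ n (by omega) hn', mul_smul]
    rw [hFdef, eval_sub, eval_pow, eval_X, eval_finsetSum]
    simp only [eval_mul, eval_C, eval_pow, eval_X]
    rw [Finset.sum_congr rfl hterm, ← Finset.sum_smul, smul_pow_sub, sub_one_pow_of_choose (k := k) hd hmid,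
      ← sub_smul]
    have ha' : a ^ d - ∑ n ∈ Finset.range d, e n * a ^ n = 0 := by
      simpa [Pk, IsRoot.def, eval_finsetSum] using ha
    rw [ha', zero_smul]

/-- The step of the dévissage. -/
theorem Skew.exists_retraction [IsAlgClosed k] (hι : Function.Injective ι) (hD : HopfRep.IsDiagonalizable k B) :
    ∃ r : S.ev.range →ₐ[k] B, (∀ (b : B) (p : S.ev.range), (p : A) = ι b → r p = b) ∧
      (∀ p, Coalgebra.counit (R := k) (r p) = Coalgebra.counit (R := k) (p : A)) ∧
      ∀ (p : S.ev.range) (z : S.ev.range ⊗[k] S.ev.range), Algebra.TensorProduct.map S.ev.range.val S.ev.range.val z = Coalgebra.comul (R := k) (p : A) →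
        Algebra.TensorProduct.map r r z = Coalgebra.comul (R := k) (r p) := by
  obtain ⟨u, hu, hker⟩ := S.exists_subst hι hD
  exact S.retraction_of_subst hu hker

end Groth.Agent.SplitDiag
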